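import Cfsg.Agent.Lib.Helper26.Co1O.Eval
import Cfsg.Agent.Lib.Helper26.Co1O.DataP
import Cfsg.Agent.Lib.helper4.ElemEnum
import Cfsg.Agent.Lib.Lead.Co2A

set_option autoImplicit false
set_option maxRecDepth 1000000

/-!
# Coordinate permutations as matrix elements, and products of matrices
-/

namespace Cfsg.Agent.Lib.Helper26.Co1O

open Cfsg Cfsg.Agent.Lib.Lead.CW Cfsg.Agent.Lib.helper3 Cfsg.Agent.Lib.helper4
open Cfsg.Agent.Lib.Helper12.Golay Cfsg.Agent.S0398 Cfsg.Agent.Lib.Lead.C2

/-- the coordinate permutation of a table, as an element of `Co0` -/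
noncomputable def permK (L : List ℕ) (hok : okK L = true) : ↥Co0 :=
  ⟨permE (fperm L) (fperm_mem hok), permE_mem _ _⟩

theorem permK_apply (L : List ℕ) (hok : okK L = true) (x : ↥leechLattice) (p : GolayPt) :
    ((permK L hok).1 x).1 p = x.1 (Helper12.Golay.tblFun L p) := by
  show x.1 (fperm L p) = _
  rw [fperm_apply (okK_valid hok)]

theorem permK_rep (L : List ℕ) (hok : okK L = true) (N : ℕ)
    (hN : ∀ q p : GolayPt, mfun N q p = if p = Helper12.Golay.tblFun L q then 8 else 0) :
    MatRep (mfun N) (permK L hok) := by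
  intro x q
  rw [permK_apply]
  unfold lapply
  rw [Finset.sum_eq_single (Helper12.Golay.tblFun L q)]
  · rw [hN, if_pos rfl]
  · intro p _ hp
    rw [hN, if_neg hp, zero_mul]
  · intro h
    exact absurd (Finset.mem_univ _) h

/-- the product of two matrix elements, with the product matrix supplied -/
theorem MatRep.mul_chk {M N P : ℕ} {g h : ↥Co0} (hg : MatRep (mfun M) g) (hh : MatRep (mfun N) h)
    (H : ∀ q p : GolayPt, ∑ r, mfun M q r * mfun N r p = 8 * mfun P q p) :
    MatRep (mfun P) (g * h) := by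
  intro x q
  have e1 : 8 * ((g * h).1 x).1 q = ∑ r, mfun M q r * (h.1 x).1 r := hg (h.1 x) q
  have e2 : 8 * (8 * ((g * h).1 x).1 q) = 8 * lapply (mfun P) x.1 q := by
    rw [e1, Finset.mul_sum]
    have e3 : ∀ r, 8 * (mfun M q r * (h.1 x).1 r) = ∑ p, (mfun M q r * mfun N r p) * x.1 p := by
      intro r
      have := hh x r
      unfold lapply at this
      calc 8 * (mfun M q r * (h.1 x).1 r) = mfun M q r * (8 * (h.1 x).1 r) := by ring
        _ = mfun M q r * ∑ p, mfun N r p * x.1 p := by rw [this]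
        _ = ∑ p, (mfun M q r * mfun N r p) * x.1 p := by
          rw [Finset.mul_sum]
          refine Finset.sum_congr rfl (fun p _ => ?_)
          ring
    simp only [e3]
    rw [Finset.sum_comm]
    unfold lapply
    rw [Finset.mul_sum]
    refine Finset.sum_congr rfl (fun p _ => ?_)
    rw [← Finset.sum_mul, H]
    ring
  omega

theorem c1Ls_ok : okK c1Ls = true := by decide

/-- the coordinate permutation `t ↦ t + 1` -/
noncomputable def c1s : ↥Co0 := permK c1Ls c1Ls_ok

/-- the coordinate permutation `t ↦ 2 t` -/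
noncomputable def c1d : ↥Co0 := permK L11 ok11

theorem c1s_rep : MatRep (mfun c1S) c1s :=
  permK_rep c1Ls c1Ls_ok c1S (by decide +kernel)

theorem c1d_rep : MatRep (mfun c1D) c1d :=
  permK_rep L11 ok11 c1D (by decide +kernel)

theorem c1s_w : WRep [c1S] c1s := WRep.of_mat c1s_rep

theorem c1d_w : WRep [c1D] c1d := WRep.of_mat c1d_rep

theorem c1Ls_some : ∀ t : ZMod 23, Helper12.Golay.tblFun c1Ls (some t) = some (t + 1) := by decide

end Cfsg.Agent.Lib.Helper26.Co1O
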