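import Cfsg.Agent.Lib.Helper26.Co1O.Elts
import Cfsg.Agent.Lib.Helper26.Co1O.PermE
import Cfsg.Agent.Lib.Helper27.C1OFIXS
import Cfsg.Agent.Lib.Helper27.C1OFIXD

set_option autoImplicit false
set_option maxRecDepth 1000000

/-!
# The minimal vectors fixed by the elements of orders 23 and 11

The element `c1k` conjugates the coordinate permutations `t ↦ t + 1` and `t ↦ 2 t` to the inverses
of `c1c` and `c1u`, and maps `(-3, 1^23)` to `leechU`; the minimal vectors fixed by the two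
coordinate permutations are known.
-/

namespace Cfsg.Agent.Lib.Helper26.Co1O

open Cfsg Cfsg.Agent.Lib.Lead.CW Cfsg.Agent.Lib.helper3 Cfsg.Agent.Lib.Lead.C2 Cfsg.Agent.S1571

theorem c1k_s : c1k * c1s = c1c⁻¹ * c1k :=
  (c1k_w.mul c1s_w).ext_basis (c1c_wi.mul c1k_w) (by decide +kernel)

theorem c1k_d : c1k * c1d = c1u⁻¹ * c1k :=
  (c1k_w.mul c1d_w).ext_basis (c1u_wi.mul c1k_w) (by decide +kernel)

theorem vecL_neg (x : V) : vecL (-x) = (vecL x).map (fun a => -a) := by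
  unfold vecL
  rw [List.map_map]
  rfl

theorem inv_fix (g : ↥Co0) (x : ↥leechLattice) (h : g.1 x = x) : g⁻¹.1 x = x := by
  have e : (g⁻¹ * g).1 x = g⁻¹.1 x := by
    show g⁻¹.1 (g.1 x) = _
    rw [h]
  rw [inv_mul_cancel] at e
  exact e.symm

theorem mul_inv_apply (g : ↥Co0) (x : ↥leechLattice) : g.1 (g⁻¹.1 x) = x := by
  show (g * g⁻¹).1 x = x
  rw [mul_inv_cancel]
  rfl

/-- image under `c1k` of a vector given by its list -/
theorem c1k_img_pos (y : ↥leechLattice) (v : V) (hy : y.1 = v) {Ns : List ℕ} {z : ↥Co0}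
    (hz : WRep Ns z) (H : evalL [c1K] (vecL v) = evalL Ns (vecL Spor.vecU)) :
    c1k.1 y = z.1 Spor.leechU := by
  apply Subtype.ext
  apply vecL_inj
  rw [c1k_w y, hz Spor.leechU, hy]
  exact H

theorem c1k_img_neg (y : ↥leechLattice) (v : V) (hy : y.1 = v) {Ns : List ℕ} {z : ↥Co0}
    (hz : WRep Ns z) (H : evalL [c1K] (vecL v) = (evalL Ns (vecL Spor.vecU)).map (fun a => -a)) :
    c1k.1 y = -(z.1 Spor.leechU) := by
  apply Subtype.ext
  apply vecL_inj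
  show _ = vecL (-(z.1 Spor.leechU).1)
  rw [vecL_neg, c1k_w y, hz Spor.leechU, hy]
  exact H

/-- a minimal vector fixed by `c1c` is `leechU` or its opposite -/
theorem fix_c (x : ↥leechLattice) (hN : sqNorm x.1 = 32) (hx : c1c.1 x = x) :
    x = Spor.leechU ∨ x = -Spor.leechU := by
  set y := c1k⁻¹.1 x with hy
  have hky : c1k.1 y = x := mul_inv_apply c1k x
  have hsy : c1s.1 y = y := by
    have e : c1s = c1k⁻¹ * c1c⁻¹ * c1k := by rw [mul_assoc, ← c1k_s]; group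
    rw [e]
    show c1k⁻¹.1 (c1c⁻¹.1 (c1k.1 y)) = y
    rw [hky, inv_fix c1c x hx]
  have hyN : sqNorm y.1 = 32 := by rw [← hN]; exact c1k⁻¹.2.2 x
  have hsh : ∀ t : ZMod 23, y.1 (some (t + 1)) = y.1 (some t) := by
    intro t
    have h1 : (c1s.1 y).1 (some t) = y.1 (some t) := by rw [hsy]
    rw [show c1s = permK c1Ls c1Ls_ok from rfl, permK_apply, c1Ls_some] at h1
    exact h1
  have hW1 : WRep [] (1 : ↥Co0) := WRep.one
  rcases Cfsg.Agent.Lib.Helper27.Co1O.fix_shift y.1 y.2 hyN hsh with h | h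
  · left
    rw [← hky, c1k_img_pos y x0 h hW1 (by decide +kernel)]
    rfl
  · right
    rw [← hky, c1k_img_neg y (-x0) h hW1 (by decide +kernel)]
    rfl

/-- the six elements commuting with `c1u` that move `leechU` to the fixed minimal vectors -/
noncomputable def c1zs : List ↥Co0 := [1, c1z1, c1z2, c1z3, c1z4, c1z5]

set_option maxHeartbeats 1000000 in
/-- a minimal vector fixed by `c1u` is, up to sign, the image of `leechU` under one of six -/
theorem fix_u (x : ↥leechLattice) (hN : sqNorm x.1 = 32) (hx : c1u.1 x = x) :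
    ∃ z ∈ c1zs, x = z.1 Spor.leechU ∨ x = -(z.1 Spor.leechU) := by
  set y := c1k⁻¹.1 x with hy
  have hky : c1k.1 y = x := mul_inv_apply c1k x
  have hdy : c1d.1 y = y := by
    have e : c1d = c1k⁻¹ * c1u⁻¹ * c1k := by rw [mul_assoc, ← c1k_d]; group
    rw [e]
    show c1k⁻¹.1 (c1u⁻¹.1 (c1k.1 y)) = y
    rw [hky, inv_fix c1u x hx]
  have hyN : sqNorm y.1 = 32 := by rw [← hN]; exact c1k⁻¹.2.2 x
  have hdb : ∀ p, y.1 (tF L11 p) = y.1 p := by
    intro p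
    have h1 : (c1d.1 y).1 p = y.1 p := by rw [hdy]
    rw [show c1d = permK L11 ok11 from rfl, permK_apply] at h1
    exact h1
  have hW1 : WRep [] (1 : ↥Co0) := WRep.one
  obtain ⟨a, b, c1, c2, hv, hmem⟩ := Cfsg.Agent.Lib.Helper27.Co1O.fix_double y.1 y.2 hyN hdb
  simp only [List.mem_cons, List.cons.injEq, List.mem_nil_iff, and_true, or_false] at hmem
  rw [← hky]
  rcases hmem with ⟨rfl, rfl, rfl, rfl⟩ | ⟨rfl, rfl, rfl, rfl⟩ | ⟨rfl, rfl, rfl, rfl⟩ |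
    ⟨rfl, rfl, rfl, rfl⟩ | ⟨rfl, rfl, rfl, rfl⟩ | ⟨rfl, rfl, rfl, rfl⟩ | ⟨rfl, rfl, rfl, rfl⟩ |
    ⟨rfl, rfl, rfl, rfl⟩ | ⟨rfl, rfl, rfl, rfl⟩ | ⟨rfl, rfl, rfl, rfl⟩ | ⟨rfl, rfl, rfl, rfl⟩ |
    ⟨rfl, rfl, rfl, rfl⟩
  · exact ⟨c1z1, by simp [c1zs], Or.inl (c1k_img_pos y _ hv c1z1_w (by decide +kernel))⟩
  · exact ⟨c1z2, by simp [c1zs], Or.inl (c1k_img_pos y _ hv c1z2_w (by decide +kernel))⟩
  · exact ⟨c1z2, by simp [c1zs], Or.inr (c1k_img_neg y _ hv c1z2_w (by decide +kernel))⟩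
  · exact ⟨c1z1, by simp [c1zs], Or.inr (c1k_img_neg y _ hv c1z1_w (by decide +kernel))⟩
  · exact ⟨c1z3, by simp [c1zs], Or.inl (c1k_img_pos y _ hv c1z3_w (by decide +kernel))⟩
  · exact ⟨c1z4, by simp [c1zs], Or.inl (c1k_img_pos y _ hv c1z4_w (by decide +kernel))⟩
  · exact ⟨c1z4, by simp [c1zs], Or.inr (c1k_img_neg y _ hv c1z4_w (by decide +kernel))⟩
  · exact ⟨c1z3, by simp [c1zs], Or.inr (c1k_img_neg y _ hv c1z3_w (by decide +kernel))⟩
  · exact ⟨1, by simp [c1zs], Or.inl (c1k_img_pos y _ hv hW1 (by decide +kernel))⟩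
  · exact ⟨c1z5, by simp [c1zs], Or.inl (c1k_img_pos y _ hv c1z5_w (by decide +kernel))⟩
  · exact ⟨c1z5, by simp [c1zs], Or.inr (c1k_img_neg y _ hv c1z5_w (by decide +kernel))⟩
  · exact ⟨1, by simp [c1zs], Or.inr (c1k_img_neg y _ hv hW1 (by decide +kernel))⟩

end Cfsg.Agent.Lib.Helper26.Co1O
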