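import Cfsg.Agent.Lib.Helper26.Co1O.Elts

set_option autoImplicit false
set_option maxRecDepth 1000000

/-!
# The five elements `c1z1, …, c1z5` commute with the element `c1u` of order 11
-/

namespace Cfsg.Agent.Lib.Helper26.Co1O

open Cfsg

theorem c1z1_u : c1z1 * c1u = c1u * c1z1 :=
  (c1z1_w.mul c1u_w).ext_basis (c1u_w.mul c1z1_w) (by decide +kernel)

theorem c1z2_u : c1z2 * c1u = c1u * c1z2 :=
  (c1z2_w.mul c1u_w).ext_basis (c1u_w.mul c1z2_w) (by decide +kernel)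

theorem c1z3_u : c1z3 * c1u = c1u * c1z3 :=
  (c1z3_w.mul c1u_w).ext_basis (c1u_w.mul c1z3_w) (by decide +kernel)

theorem c1z4_u : c1z4 * c1u = c1u * c1z4 :=
  (c1z4_w.mul c1u_w).ext_basis (c1u_w.mul c1z4_w) (by decide +kernel)

theorem c1z5_u : c1z5 * c1u = c1u * c1z5 :=
  (c1z5_w.mul c1u_w).ext_basis (c1u_w.mul c1z5_w) (by decide +kernel)

end Cfsg.Agent.Lib.Helper26.Co1O
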