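import Cfsg.Agent.Lib.Helper26.Co1O.Co2Facts
import Cfsg.Agent.Lib.Helper26.Co1O.Fix
import Cfsg.Agent.Lib.Helper26.Co1O.ZComm
import Cfsg.Agent.Lib.helper7.Co1D

set_option autoImplicit false
set_option maxRecDepth 1000000

/-!
# The centralisers of the elements of orders 23 and 11 in `Co₁`
-/

namespace Cfsg.Agent.Lib.Helper26.Co1O

open Cfsg Cfsg.Agent.Lib.helper7.Co1 Subgroup

/-- the projection of `Co0` to `Co₁` -/
noncomputable def c1pi : ↥Co0 →* Spor.Co1 := QuotientGroup.mk' (Subgroup.center ↥Co0)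

theorem c1pi_surj : Function.Surjective c1pi := QuotientGroup.mk'_surjective _

theorem c1pi_eq_one {g : ↥Co0} (h : c1pi g = 1) : g = 1 ∨ g = negE :=
  center_cases g ((QuotientGroup.eq_one_iff g).1 h)

theorem c1pi_negE : c1pi negE = 1 := (QuotientGroup.eq_one_iff negE).2 negE_mem_center

theorem c1pi_eq {g h : ↥Co0} (e : c1pi g = c1pi h) : h = g ∨ h = negE * g := by
  have e1 : c1pi (g⁻¹ * h) = 1 := by rw [map_mul, map_inv, e, inv_mul_cancel]
  rcases c1pi_eq_one e1 with h1 | h1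
  · left
    exact (inv_mul_eq_one.1 h1).symm
  · right
    rw [← negE_comm, ← h1]
    group

theorem negE_pow_odd (n : ℕ) (hn : Odd n) : negE ^ n = negE := by
  obtain ⟨m, rfl⟩ := hn
  rw [pow_succ, pow_mul, pow_two, negE_sq, one_pow, one_mul]

/-- elements commuting in `Co₁` with an element of odd order commute in `Co0` -/
theorem comm_of_pi (g c : ↥Co0) (n : ℕ) (hn : c ^ n = 1) (hodd : Odd n)
    (h : c1pi (g * c) = c1pi (c * g)) : g * c = c * g := by
  rcases c1pi_eq h with h1 | h1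
  · exact h1.symm
  · exfalso
    have e1 : c = negE * (g * c * g⁻¹) := by
      calc c = c * g * g⁻¹ := by group
        _ = negE * (g * c) * g⁻¹ := by rw [h1]
        _ = negE * (g * c * g⁻¹) := by group
    have e2 : (negE * (g * c * g⁻¹)) ^ n = negE := by
      rw [Commute.mul_pow (show Commute negE (g * c * g⁻¹) from (negE_comm _).symm) n, conj_pow, hn,
        mul_one, mul_inv_cancel, mul_one, negE_pow_odd n hodd]
    rw [← e1, hn] at e2
    exact negE_ne_one e2.symm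

theorem leechU_norm : sqNorm Spor.leechU.1 = 32 := by decide +kernel

theorem negE_mul_apply (g : ↥Co0) (x : ↥leechLattice) : (negE * g).1 x = -(g.1 x) := rfl

theorem exists_pow_lt {G : Type*} [Group G] (x y : G) (n : ℕ) (hn : orderOf x = n) (hpos : 0 < n)
    (h : y ∈ zpowers x) : ∃ j < n, y = x ^ j := by
  obtain ⟨k, rfl⟩ := mem_zpowers_iff.1 h
  have hn0 : (n : ℤ) ≠ 0 := by omega
  have h0 : 0 ≤ k % (n : ℤ) := Int.emod_nonneg _ hn0
  have h1 : k % (n : ℤ) < n := Int.emod_lt_of_pos _ (by omega)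
  refine ⟨(k % (n : ℤ)).toNat, by omega, ?_⟩
  rw [← zpow_natCast, Int.toNat_of_nonneg h0, ← hn, zpow_mod_orderOf]

/-- the centraliser of `c1c` modulo the centre -/
theorem cent_c (g : ↥Co0) (h : g * c1c = c1c * g) : c1pi g ∈ zpowers (c1pi c1c) := by
  have hN : sqNorm (g.1 Spor.leechU).1 = 32 := (g.2.2 Spor.leechU).trans leechU_norm
  have hx : c1c.1 (g.1 Spor.leechU) = g.1 Spor.leechU := by
    show (c1c * g).1 Spor.leechU = _
    rw [← h]
    show g.1 (c1c.1 Spor.leechU) = _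
    rw [c1c_fix]
  rw [← MonoidHom.map_zpowers]
  rcases fix_c _ hN hx with h1 | h1
  · exact mem_map_of_mem _ (cent_c_fix g h1 h)
  · have h2 : (negE * g).1 Spor.leechU = Spor.leechU := by
      rw [negE_mul_apply, h1, neg_neg]
    have h3 : negE * g * c1c = c1c * (negE * g) := by
      rw [mul_assoc, h, ← mul_assoc, ← mul_assoc, negE_comm]
    have h4 := mem_map_of_mem c1pi (cent_c_fix _ h2 h3)
    rw [map_mul, c1pi_negE, one_mul] at h4
    exact h4

theorem c1zs_comm : ∀ z ∈ c1zs, z * c1u = c1u * z := by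
  intro z hz
  simp only [c1zs, List.mem_cons, List.mem_nil_iff, or_false] at hz
  rcases hz with rfl | rfl | rfl | rfl | rfl | rfl
  · rw [one_mul, mul_one]
  · exact c1z1_u
  · exact c1z2_u
  · exact c1z3_u
  · exact c1z4_u
  · exact c1z5_u

/-- the centraliser of `c1u` modulo the centre -/
theorem cent_u (g : ↥Co0) (h : g * c1u = c1u * g) :
    ∃ z ∈ c1zs, ∃ j < 11, c1pi g = c1pi (z * c1u ^ j) := by
  have hN : sqNorm (g.1 Spor.leechU).1 = 32 := (g.2.2 Spor.leechU).trans leechU_norm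
  have hx : c1u.1 (g.1 Spor.leechU) = g.1 Spor.leechU := by
    show (c1u * g).1 Spor.leechU = _
    rw [← h]
    show g.1 (c1u.1 Spor.leechU) = _
    rw [c1u_fix]
  obtain ⟨z, hz, hzx⟩ := fix_u _ hN hx
  have hzu := c1zs_comm z hz
  have hzi : z⁻¹ * c1u = c1u * z⁻¹ := by
    calc z⁻¹ * c1u = z⁻¹ * (c1u * z) * z⁻¹ := by group
      _ = z⁻¹ * (z * c1u) * z⁻¹ := by rw [hzu]
      _ = c1u * z⁻¹ := by group
  have hcomm : z⁻¹ * g * c1u = c1u * (z⁻¹ * g) := by
    rw [mul_assoc, h, ← mul_assoc, hzi, mul_assoc]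
  refine ⟨z, hz, ?_⟩
  rcases hzx with h1 | h1
  · have h2 : (z⁻¹ * g).1 Spor.leechU = Spor.leechU := by
      show z⁻¹.1 (g.1 Spor.leechU) = _
      rw [h1]
      show (z⁻¹ * z).1 Spor.leechU = _
      rw [inv_mul_cancel]
      rfl
    obtain ⟨j, hj, e⟩ := exists_pow_lt c1u _ 11 c1u_order (by norm_num) (cent_u_fix _ h2 hcomm)
    refine ⟨j, hj, ?_⟩
    rw [← e]
    congr 1
    group
  · have h2 : (negE * (z⁻¹ * g)).1 Spor.leechU = Spor.leechU := by
      rw [negE_mul_apply]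
      show -(z⁻¹.1 (g.1 Spor.leechU)) = _
      rw [h1, Cfsg.Agent.S0398.map_neg', neg_neg]
      show (z⁻¹ * z).1 Spor.leechU = _
      rw [inv_mul_cancel]
      rfl
    have h3 : negE * (z⁻¹ * g) * c1u = c1u * (negE * (z⁻¹ * g)) := by
      calc negE * (z⁻¹ * g) * c1u = negE * (z⁻¹ * g * c1u) := by group
        _ = negE * (c1u * (z⁻¹ * g)) := by rw [hcomm]
        _ = (negE * c1u) * (z⁻¹ * g) := by group
        _ = (c1u * negE) * (z⁻¹ * g) := by rw [negE_comm c1u]
        _ = c1u * (negE * (z⁻¹ * g)) := by group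
    obtain ⟨j, hj, e⟩ := exists_pow_lt c1u _ 11 c1u_order (by norm_num) (cent_u_fix _ h2 h3)
    refine ⟨j, hj, ?_⟩
    rw [← e, map_mul, map_mul, c1pi_negE, one_mul, map_mul, map_inv, mul_inv_cancel_left]

end Cfsg.Agent.Lib.Helper26.Co1O
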