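import Cfsg.Agent.Lib.Helper26.Co1O.LiftC

set_option autoImplicit false
set_option maxRecDepth 1000000

/-!
# Facts about the stabiliser of `leechU` in `Co0`, transported from the concrete group on 4600 points
-/

namespace Cfsg.Agent.Lib.Helper26.Co1O

open Cfsg Cfsg.Agent.Lib.helper14.MS Cfsg.Agent.Lib.helper23 Subgroup

/-- the inclusion of `Co₂` in `Co0` -/
noncomputable def co2E : ↥Spor.Co2 →* ↥Co0 where
  toFun g := ⟨g.1, (mem_co2_iff.1 g.2).1⟩
  map_one' := rfl
  map_mul' _ _ := rfl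

theorem co2E_injective : Function.Injective co2E := by
  intro a b h
  apply Subtype.ext
  exact congrArg (fun x : ↥Co0 => x.1) h

theorem exists_co2E (g : ↥Co0) (hg : g.1 Spor.leechU = Spor.leechU) :
    ∃ k : ↥Spor.Co2, co2E k = g :=
  ⟨⟨g.1, mem_co2_iff.2 ⟨g.2, hg⟩⟩, rfl⟩

theorem co2E_fix (k : ↥Spor.Co2) : (co2E k).1 Spor.leechU = Spor.leechU := (mem_co2_iff.1 k.2).2

theorem msRho_mem (k : ↥Spor.Co2) : msRho k ∈ M4600 := by
  rw [← msRho_range]
  exact ⟨k, rfl⟩

/-- the element of `Co₂` of order 23 -/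
noncomputable def c2c : ↥Spor.Co2 := liftS moSc moSc_mem

/-- the element of `Co₂` of order 11 -/
noncomputable def c2u : ↥Spor.Co2 := liftS moSu moSu_mem

/-- the involution of `Co₂` -/
noncomputable def c2t : ↥Spor.Co2 := liftS moSt moSt_mem

theorem msRho_c2c : msRho c2c = moSc := msRho_liftS _ _

theorem msRho_c2u : msRho c2u = moSu := msRho_liftS _ _

theorem msRho_c2t : msRho c2t = moSt := msRho_liftS _ _

theorem co2E_c2c : co2E c2c = c1c := c1c_lift.symm

theorem co2E_c2u : co2E c2u = c1u := c1u_lift.symm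

theorem co2E_c2t : co2E c2t = c1t := c1t_lift.symm

theorem c1c_fix : c1c.1 Spor.leechU = Spor.leechU := by
  rw [← co2E_c2c]; exact co2E_fix _

theorem c1u_fix : c1u.1 Spor.leechU = Spor.leechU := by
  rw [← co2E_c2u]; exact co2E_fix _

theorem c1t_fix : c1t.1 Spor.leechU = Spor.leechU := by
  rw [← co2E_c2t]; exact co2E_fix _

theorem c1c_order : orderOf c1c = 23 := by
  rw [← co2E_c2c, orderOf_injective co2E co2E_injective, ← orderOf_injective msRho msRho_injective,
    msRho_c2c, moSc_order]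

theorem c1u_order : orderOf c1u = 11 := by
  rw [← co2E_c2u, orderOf_injective co2E co2E_injective, ← orderOf_injective msRho msRho_injective,
    msRho_c2u, moSu_order]

theorem c1u_c : c1u * c1c * c1u⁻¹ = c1c ^ 2 := by
  rw [← co2E_c2u, ← co2E_c2c, ← map_inv, ← map_mul, ← map_mul, ← map_pow]
  congr 1
  apply msRho_injective
  rw [map_mul, map_mul, map_inv, map_pow, msRho_c2u, msRho_c2c]
  exact moSu_c

theorem c1t_u : c1t * c1u * c1t⁻¹ = c1u⁻¹ := by
  rw [← co2E_c2t, ← co2E_c2u, ← map_inv, ← map_mul, ← map_mul, ← map_inv]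
  congr 1
  apply msRho_injective
  rw [map_mul, map_mul, map_inv, map_inv, msRho_c2u, msRho_c2t]
  exact moSt_u

theorem moSt_sq : moSt * moSt = 1 :=
  (pgEq_iff (PgRep.mul moRt moRt) PgRep.one).1 (by decide +kernel)

theorem c1t_sq : c1t * c1t = 1 := by
  rw [← co2E_c2t, ← map_mul, ← map_one co2E]
  congr 1
  apply msRho_injective
  rw [map_mul, map_one, msRho_c2t]
  exact moSt_sq

/-- a second word in two elements -/
def c1W {G : Type*} [Group G] (x y : G) : G := x * x * x * y * x * y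

theorem c1W_map {G H : Type*} [Group G] [Group H] (γ : G →* H) (x y : G) :
    γ (c1W x y) = c1W (γ x) (γ y) := by
  unfold c1W
  simp only [map_mul]

theorem c1W_rep {n : ℕ} {f g : ℕ → ℕ} {a b : Equiv.Perm (Fin n)} (hf : PgRep f a)
    (hg : PgRep g b) :
    PgRep (fun p => f (f (f (g (f (g p)))))) (c1W a b) :=
  ((((hf.mul hf).mul hf).mul hg).mul hf).mul hg

theorem moW7 : (c1W moSc moSt) ^ 7 = 1 :=
  (pgEq_iff (moRep_pow (c1W_rep moRc moRt) 7) PgRep.one).1 (by decide +kernel)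

theorem c1W7 : (c1W c1c c1t) ^ 7 = 1 := by
  rw [← co2E_c2c, ← co2E_c2t, ← c1W_map, ← map_pow, ← map_one co2E]
  congr 1
  apply msRho_injective
  rw [map_pow, c1W_map, map_one, msRho_c2c, msRho_c2t]
  exact moW7

theorem moW_hom {G H : Type*} [Group G] [Group H] (γ : G →* H) (x y : G) :
    γ (moW x y) = moW (γ x) (γ y) := by
  unfold moW
  simp only [map_mul]

theorem c1moW12 : (moW c1c c1t) ^ 12 = 1 := by
  rw [← co2E_c2c, ← co2E_c2t, ← moW_hom, ← map_pow, ← map_one co2E]
  congr 1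
  apply msRho_injective
  rw [map_pow, moW_hom, map_one, msRho_c2c, msRho_c2t]
  exact moW_pos

theorem c1bad_neg (i : ℕ) (hi : i < 11) : (moW c1c⁻¹ (c1t * c1u ^ i)) ^ 12 ≠ 1 := by
  intro h
  apply mobad_neg i hi
  rw [← co2E_c2c, ← co2E_c2t, ← co2E_c2u, ← map_pow, ← map_mul, ← map_inv, ← moW_hom, ← map_pow,
    ← map_one co2E] at h
  have h2 := congrArg msRho (co2E_injective h)
  rw [map_pow, moW_hom, map_one, map_inv, map_mul, map_pow, msRho_c2c, msRho_c2t, msRho_c2u] at h2
  exact h2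

theorem c1bad_pos (i : ℕ) (hi : i < 11) (h0 : i ≠ 0) : (moW c1c (c1t * c1u ^ i)) ^ 12 ≠ 1 := by
  intro h
  apply mobad_pos i hi h0
  rw [← co2E_c2c, ← co2E_c2t, ← co2E_c2u, ← map_pow, ← map_mul, ← moW_hom, ← map_pow,
    ← map_one co2E] at h
  have h2 := congrArg msRho (co2E_injective h)
  rw [map_pow, moW_hom, map_one, map_mul, map_pow, msRho_c2c, msRho_c2t, msRho_c2u] at h2
  exact h2

/-- an element fixing `leechU` that commutes with `c1c` is a power of it -/
theorem cent_c_fix (g : ↥Co0) (hg : g.1 Spor.leechU = Spor.leechU) (hc : g * c1c = c1c * g) :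
    g ∈ zpowers c1c := by
  obtain ⟨k, rfl⟩ := exists_co2E g hg
  rw [← co2E_c2c, ← map_mul, ← map_mul] at hc
  have h1 : k * c2c = c2c * k := co2E_injective hc
  have h2 : msRho k * moSc = moSc * msRho k := by
    rw [← msRho_c2c, ← map_mul, h1, map_mul]
  obtain ⟨n, hn⟩ := mem_zpowers_iff.1 (mocent_c (msRho k) (msRho_mem k) h2)
  have h3 : k = c2c ^ n := msRho_injective (by rw [map_zpow, msRho_c2c]; exact hn.symm)
  rw [h3, map_zpow, co2E_c2c]
  exact zpow_mem_zpowers _ _

/-- an element fixing `leechU` that commutes with `c1u` is a power of it -/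
theorem cent_u_fix (g : ↥Co0) (hg : g.1 Spor.leechU = Spor.leechU) (hc : g * c1u = c1u * g) :
    g ∈ zpowers c1u := by
  obtain ⟨k, rfl⟩ := exists_co2E g hg
  rw [← co2E_c2u, ← map_mul, ← map_mul] at hc
  have h1 : k * c2u = c2u * k := co2E_injective hc
  have h2 : msRho k * moSu = moSu * msRho k := by
    rw [← msRho_c2u, ← map_mul, h1, map_mul]
  obtain ⟨n, hn⟩ := mem_zpowers_iff.1 (mocent_u (msRho k) (msRho_mem k) h2)
  have h3 : k = c2u ^ n := msRho_injective (by rw [map_zpow, msRho_c2u]; exact hn.symm)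
  rw [h3, map_zpow, co2E_c2u]
  exact zpow_mem_zpowers _ _

/-- every element fixing `leechU` is a word in `c1c` and `c1t` -/
theorem gen_fix (g : ↥Co0) (hg : g.1 Spor.leechU = Spor.leechU) :
    g ∈ closure ({c1c, c1t} : Set ↥Co0) := by
  obtain ⟨k, rfl⟩ := exists_co2E g hg
  set P : Subgroup ↥Spor.Co2 := (closure ({c1c, c1t} : Set ↥Co0)).comap co2E with hP
  have hc : c2c ∈ P := by
    show co2E c2c ∈ closure ({c1c, c1t} : Set ↥Co0)
    rw [co2E_c2c]
    exact subset_closure (Set.mem_insert _ _)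
  have ht : c2t ∈ P := by
    show co2E c2t ∈ closure ({c1c, c1t} : Set ↥Co0)
    rw [co2E_c2t]
    exact subset_closure (Set.mem_insert_of_mem _ rfl)
  have hle : M4600 ≤ P.map msRho := by
    rw [← moclosure, closure_le]
    rintro s (rfl | rfl)
    · exact ⟨c2c, hc, msRho_c2c⟩
    · exact ⟨c2t, ht, msRho_c2t⟩
  obtain ⟨k', hk', e⟩ := hle (msRho_mem k)
  have : k' = k := msRho_injective e
  rw [this] at hk'
  exact hk'

end Cfsg.Agent.Lib.Helper26.Co1O
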