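import Cfsg.Agent.Lib.Helper26.Co1O.MatC
import Cfsg.Agent.Lib.Helper26.Co1O.Data

set_option autoImplicit false
set_option maxRecDepth 1000000

/-!
# Matrices for the outer automorphism group of `Co₁`: the tests for `c1C`
-/

namespace Cfsg.Agent.Lib.Helper26.Co1O

open Cfsg Cfsg.Agent.Lib.Lead.CW Cfsg.Agent.Lib.helper3

theorem c1C_tr : ∀ q p : GolayPt, mfun c1Ct q p = mfun c1C p q := by decide +kernel

theorem c1C_lat : GamChk (mfun c1C) := by decide +kernel

theorem c1C_latT : GamChk (mfun c1Ct) := by decide +kernel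

theorem c1C_orth : LOrth (mfun c1C) := by decide +kernel

theorem c1C_orthT : LOrth (mfun c1Ct) := by decide +kernel

theorem c1C_ok : MatOk c1C c1Ct := ⟨c1C_tr, c1C_lat, c1C_latT, c1C_orth, c1C_orthT⟩

end Cfsg.Agent.Lib.Helper26.Co1O
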