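import Cfsg.Agent.Lib.Helper26.Co1O.MatC
import Cfsg.Agent.Lib.Helper26.Co1O.Data

set_option autoImplicit false
set_option maxRecDepth 1000000

/-!
# Matrices for the outer automorphism group of `Co₁`: the tests for `c1K`
-/

namespace Cfsg.Agent.Lib.Helper26.Co1O

open Cfsg Cfsg.Agent.Lib.Lead.CW Cfsg.Agent.Lib.helper3

theorem c1K_tr : ∀ q p : GolayPt, mfun c1Kt q p = mfun c1K p q := by decide +kernel

theorem c1K_lat : GamChk (mfun c1K) := by decide +kernel

theorem c1K_latT : GamChk (mfun c1Kt) := by decide +kernel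

theorem c1K_orth : LOrth (mfun c1K) := by decide +kernel

theorem c1K_orthT : LOrth (mfun c1Kt) := by decide +kernel

theorem c1K_ok : MatOk c1K c1Kt := ⟨c1K_tr, c1K_lat, c1K_latT, c1K_orth, c1K_orthT⟩

end Cfsg.Agent.Lib.Helper26.Co1O
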