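import Cfsg.Agent.Lib.Helper26.Co1O.MatC
import Cfsg.Agent.Lib.Helper26.Co1O.Data

set_option autoImplicit false
set_option maxRecDepth 1000000

/-!
# Matrices for the outer automorphism group of `Co₁`: the tests for `c1T`
-/

namespace Cfsg.Agent.Lib.Helper26.Co1O

open Cfsg Cfsg.Agent.Lib.Lead.CW Cfsg.Agent.Lib.helper3

theorem c1T_tr : ∀ q p : GolayPt, mfun c1Tt q p = mfun c1T p q := by decide +kernel

theorem c1T_lat : GamChk (mfun c1T) := by decide +kernel

theorem c1T_latT : GamChk (mfun c1Tt) := by decide +kernel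

theorem c1T_orth : LOrth (mfun c1T) := by decide +kernel

theorem c1T_orthT : LOrth (mfun c1Tt) := by decide +kernel

theorem c1T_ok : MatOk c1T c1Tt := ⟨c1T_tr, c1T_lat, c1T_latT, c1T_orth, c1T_orthT⟩

end Cfsg.Agent.Lib.Helper26.Co1O
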