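import Cfsg.Agent.Lib.Helper26.Co1O.Eval
import Cfsg.Agent.Lib.Helper26.Co1O.OkC
import Cfsg.Agent.Lib.Helper26.Co1O.OkU
import Cfsg.Agent.Lib.Helper26.Co1O.OkT
import Cfsg.Agent.Lib.Helper26.Co1O.OkK
import Cfsg.Agent.Lib.Helper26.Co1O.OkH
import Cfsg.Agent.Lib.Helper26.Co1O.OkZ1
import Cfsg.Agent.Lib.Helper26.Co1O.OkZ2
import Cfsg.Agent.Lib.Helper26.Co1O.OkZ3
import Cfsg.Agent.Lib.Helper26.Co1O.OkZ4
import Cfsg.Agent.Lib.Helper26.Co1O.OkZ5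

set_option autoImplicit false

/-!
# The elements of `Co0` used for the outer automorphism group of `Co₁`
-/

namespace Cfsg.Agent.Lib.Helper26.Co1O

open Cfsg

/-- the element of `Co0` with matrix `c1C` -/
def c1c : ↥Co0 := matEN c1C c1Ct c1C_ok

theorem c1c_rep : MatRep (mfun c1C) c1c := matEN_rep _ _ _

theorem c1c_w : WRep [c1C] c1c := WRep.of_mat c1c_rep

theorem c1c_wi : WRep [c1Ct] c1c⁻¹ := WRep.inv_mat c1c_rep c1C_ok

/-- the element of `Co0` with matrix `c1U` -/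
def c1u : ↥Co0 := matEN c1U c1Ut c1U_ok

theorem c1u_rep : MatRep (mfun c1U) c1u := matEN_rep _ _ _

theorem c1u_w : WRep [c1U] c1u := WRep.of_mat c1u_rep

theorem c1u_wi : WRep [c1Ut] c1u⁻¹ := WRep.inv_mat c1u_rep c1U_ok

/-- the element of `Co0` with matrix `c1T` -/
def c1t : ↥Co0 := matEN c1T c1Tt c1T_ok

theorem c1t_rep : MatRep (mfun c1T) c1t := matEN_rep _ _ _

theorem c1t_w : WRep [c1T] c1t := WRep.of_mat c1t_rep

theorem c1t_wi : WRep [c1Tt] c1t⁻¹ := WRep.inv_mat c1t_rep c1T_ok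

/-- the element of `Co0` with matrix `c1K` -/
def c1k : ↥Co0 := matEN c1K c1Kt c1K_ok

theorem c1k_rep : MatRep (mfun c1K) c1k := matEN_rep _ _ _

theorem c1k_w : WRep [c1K] c1k := WRep.of_mat c1k_rep

theorem c1k_wi : WRep [c1Kt] c1k⁻¹ := WRep.inv_mat c1k_rep c1K_ok

/-- the element of `Co0` with matrix `c1H` -/
def c1h : ↥Co0 := matEN c1H c1Ht c1H_ok

theorem c1h_rep : MatRep (mfun c1H) c1h := matEN_rep _ _ _

theorem c1h_w : WRep [c1H] c1h := WRep.of_mat c1h_rep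

theorem c1h_wi : WRep [c1Ht] c1h⁻¹ := WRep.inv_mat c1h_rep c1H_ok

/-- the element of `Co0` with matrix `c1Z1` -/
def c1z1 : ↥Co0 := matEN c1Z1 c1Z1t c1Z1_ok

theorem c1z1_rep : MatRep (mfun c1Z1) c1z1 := matEN_rep _ _ _

theorem c1z1_w : WRep [c1Z1] c1z1 := WRep.of_mat c1z1_rep

theorem c1z1_wi : WRep [c1Z1t] c1z1⁻¹ := WRep.inv_mat c1z1_rep c1Z1_ok

/-- the element of `Co0` with matrix `c1Z2` -/
def c1z2 : ↥Co0 := matEN c1Z2 c1Z2t c1Z2_ok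

theorem c1z2_rep : MatRep (mfun c1Z2) c1z2 := matEN_rep _ _ _

theorem c1z2_w : WRep [c1Z2] c1z2 := WRep.of_mat c1z2_rep

theorem c1z2_wi : WRep [c1Z2t] c1z2⁻¹ := WRep.inv_mat c1z2_rep c1Z2_ok

/-- the element of `Co0` with matrix `c1Z3` -/
def c1z3 : ↥Co0 := matEN c1Z3 c1Z3t c1Z3_ok

theorem c1z3_rep : MatRep (mfun c1Z3) c1z3 := matEN_rep _ _ _

theorem c1z3_w : WRep [c1Z3] c1z3 := WRep.of_mat c1z3_rep

theorem c1z3_wi : WRep [c1Z3t] c1z3⁻¹ := WRep.inv_mat c1z3_rep c1Z3_ok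

/-- the element of `Co0` with matrix `c1Z4` -/
def c1z4 : ↥Co0 := matEN c1Z4 c1Z4t c1Z4_ok

theorem c1z4_rep : MatRep (mfun c1Z4) c1z4 := matEN_rep _ _ _

theorem c1z4_w : WRep [c1Z4] c1z4 := WRep.of_mat c1z4_rep

theorem c1z4_wi : WRep [c1Z4t] c1z4⁻¹ := WRep.inv_mat c1z4_rep c1Z4_ok

/-- the element of `Co0` with matrix `c1Z5` -/
def c1z5 : ↥Co0 := matEN c1Z5 c1Z5t c1Z5_ok

theorem c1z5_rep : MatRep (mfun c1Z5) c1z5 := matEN_rep _ _ _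

theorem c1z5_w : WRep [c1Z5] c1z5 := WRep.of_mat c1z5_rep

theorem c1z5_wi : WRep [c1Z5t] c1z5⁻¹ := WRep.inv_mat c1z5_rep c1Z5_ok

end Cfsg.Agent.Lib.Helper26.Co1O
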