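import Cfsg.Agent.Lib.Helper26.Co1O.MatC

set_option autoImplicit false

/-!
# Evaluation of products of matrix elements of `Co0` on vectors

Vectors are lists of 24 integers; `stepL N v` is the image of `v` under the packed matrix `N`
(divided by `8`), `evalL Ns v` the image under a product.  `WRep Ns g` says that `g` acts as the
product of the matrices of `Ns`.  Two elements of `Co0` that agree on the 24 vectors `8 e_p` are
equal.
-/

namespace Cfsg.Agent.Lib.Helper26.Co1O

open Cfsg Cfsg.Agent.Lib.Lead.CW Cfsg.Agent.Lib.helper3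

/-- the list of the coordinates of a vector -/
def vecL (x : V) : List ℤ := (List.range 24).map (fun k => x (ofIdx k))

/-- a row of a packed matrix times a vector -/
def dotRow (N q : ℕ) (v : List ℤ) : ℤ := ∑ p ∈ Finset.range 24, mget N q p * v.getD p 0

/-- the image of a vector under a packed matrix, divided by `8` -/
def stepL (N : ℕ) (v : List ℤ) : List ℤ := (List.range 24).map (fun q => dotRow N q v / 8)

/-- the image of a vector under a product of packed matrices -/
def evalL (Ns : List ℕ) (v : List ℤ) : List ℤ := Ns.foldr stepL v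

theorem gidx_ofIdx : ∀ k : Fin 24, gidx (ofIdx k.1) = k.1 := by decide

theorem ofIdx_gidx : ∀ p : GolayPt, ofIdx (gidx p) = p := by decide

theorem vecL_getD (x : V) (k : ℕ) (hk : k < 24) : (vecL x).getD k 0 = x (ofIdx k) := by
  unfold vecL
  rw [List.getD_eq_getElem _ _ (by simpa using hk)]
  simp

theorem vecL_inj {x y : V} (h : vecL x = vecL y) : x = y := by
  funext p
  have h1 := vecL_getD x (gidx p) (gidx_lt p)
  have h2 := vecL_getD y (gidx p) (gidx_lt p)
  rw [ofIdx_gidx] at h1 h2
  rw [← h1, ← h2, h]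

theorem sum_golay (F : GolayPt → ℤ) : ∑ p, F p = ∑ k ∈ Finset.range 24, F (ofIdx k) := by
  symm
  apply Finset.sum_nbij' (fun k => ofIdx k) (fun p => gidx p)
  · intro k _; exact Finset.mem_univ _
  · intro p _; exact Finset.mem_range.2 (gidx_lt p)
  · intro k hk
    exact gidx_ofIdx ⟨k, Finset.mem_range.1 hk⟩
  · intro p _; exact ofIdx_gidx p
  · intro k _; rfl

theorem dotRow_vecL (N : ℕ) (k : ℕ) (hk : k < 24) (x : V) :
    dotRow N k (vecL x) = lapply (mfun N) x (ofIdx k) := by
  unfold dotRow lapply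
  rw [sum_golay]
  refine Finset.sum_congr rfl (fun p hp => ?_)
  have hp' := Finset.mem_range.1 hp
  rw [vecL_getD x p hp']
  show _ = mget N (gidx (ofIdx k)) (gidx (ofIdx p)) * _
  rw [gidx_ofIdx ⟨k, hk⟩, gidx_ofIdx ⟨p, hp'⟩]

theorem stepL_vecL (N : ℕ) (x : V) : stepL N (vecL x) = vecL (limg (mfun N) x) := by
  unfold stepL vecL
  apply List.map_congr_left
  intro k hk
  have hk' : k < 24 := List.mem_range.1 hk
  show dotRow N k (vecL x) / 8 = lapply (mfun N) x (ofIdx k) / 8
  rw [dotRow_vecL N k hk']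

theorem MatRep.step {N : ℕ} {g : ↥Co0} (h : MatRep (mfun N) g) (x : ↥leechLattice) :
    vecL (g.1 x).1 = stepL N (vecL x.1) := by
  rw [stepL_vecL, h.apply]

/-- `g` acts as the product of the packed matrices `Ns` -/
def WRep (Ns : List ℕ) (g : ↥Co0) : Prop :=
  ∀ x : ↥leechLattice, vecL (g.1 x).1 = evalL Ns (vecL x.1)

theorem WRep.one : WRep [] 1 := fun _ => rfl

theorem WRep.of_mat {N : ℕ} {g : ↥Co0} (h : MatRep (mfun N) g) : WRep [N] g := fun x => h.step x

theorem WRep.mul {Ns Ms : List ℕ} {g h : ↥Co0} (hg : WRep Ns g) (hh : WRep Ms h) :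
    WRep (Ns ++ Ms) (g * h) := by
  intro x
  show vecL (g.1 (h.1 x)).1 = _
  rw [hg (h.1 x), hh x]
  unfold evalL
  rw [List.foldr_append]

theorem WRep.pow {Ns : List ℕ} {g : ↥Co0} (hg : WRep Ns g) (n : ℕ) :
    WRep (List.replicate n Ns).flatten (g ^ n) := by
  induction n with
  | zero => exact WRep.one
  | succ n ih =>
    rw [pow_succ', List.replicate_succ, List.flatten_cons]
    exact hg.mul ih

/-- the vector `8 e_p` of the lattice -/
def s8 (p : GolayPt) : ↥leechLattice :=
  ⟨Pi.single p 8, (AddSubgroup.closure_le leechLattice).2 Gam_sub (single8_mem p)⟩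

/-- the additive map of an element of `Co0` -/
def addHomE (g : ↥Co0) : ↥leechLattice →+ ↥leechLattice where
  toFun := g.1
  map_zero' := by
    have h := g.2.1 0 0
    rw [add_zero] at h
    exact (add_left_cancel (a := g.1 0) (by rw [add_zero]; exact h)).symm
  map_add' := g.2.1

theorem eight_smul_eq (x : ↥leechLattice) : (8 : ℤ) • x = ∑ p, x.1 p • s8 p := by
  apply Subtype.ext
  funext q
  rw [AddSubgroup.coe_zsmul, AddSubgroup.val_finset_sum, Finset.sum_apply]
  simp only [Pi.smul_apply, smul_eq_mul, AddSubgroup.coe_zsmul, s8, Pi.single_apply]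
  rw [Finset.sum_eq_single q]
  · rw [if_pos rfl]; ring
  · intro p _ hp
    rw [if_neg (Ne.symm hp), mul_zero]
  · intro hq
    exact absurd (Finset.mem_univ q) hq

/-- every element of `Co0` is given by the matrix of the images of the `8 e_p` -/
theorem matRep_self (g : ↥Co0) : MatRep (fun q p => (g.1 (s8 p)).1 q) g := by
  intro x q
  have h1 : (addHomE g) ((8 : ℤ) • x) = ∑ p, x.1 p • (addHomE g) (s8 p) := by
    rw [eight_smul_eq, map_sum]
    refine Finset.sum_congr rfl (fun p _ => ?_)
    rw [map_zsmul]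
  rw [map_zsmul] at h1
  have h2 := congrArg (fun y : ↥leechLattice => y.1 q) h1
  simp only [AddSubgroup.coe_zsmul, Pi.smul_apply, smul_eq_mul, AddSubgroup.val_finset_sum,
    Finset.sum_apply] at h2
  show 8 * (g.1 x).1 q = ∑ p, (g.1 (s8 p)).1 q * x.1 p
  rw [show (g.1 x) = addHomE g x from rfl, h2]
  refine Finset.sum_congr rfl (fun p _ => ?_)
  rw [mul_comm]
  rfl

/-- two elements of `Co0` that agree on the vectors `8 e_p` are equal -/
theorem ext_s8 {g h : ↥Co0} (H : ∀ p, g.1 (s8 p) = h.1 (s8 p)) : g = h := by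
  have hg := matRep_self g
  have hh := matRep_self h
  have e : (fun q p => (g.1 (s8 p)).1 q) = (fun q p => (h.1 (s8 p)).1 q) := by
    funext q p
    rw [H p]
  rw [e] at hg
  exact hg.ext hh

/-- the list of the coordinates of `8 e_k` -/
def b8 (k : ℕ) : List ℤ := (List.range 24).map (fun j => if j = k then 8 else 0)

theorem vecL_s8 (k : ℕ) (hk : k < 24) : vecL (s8 (ofIdx k)).1 = b8 k := by
  unfold vecL b8
  apply List.map_congr_left
  intro j hj
  have hj' : j < 24 := List.mem_range.1 hj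
  show (Pi.single (ofIdx k) (8 : ℤ) : V) (ofIdx j) = _
  rw [Pi.single_apply]
  by_cases h : j = k
  · rw [if_pos h, if_pos (by rw [h])]
  · rw [if_neg h, if_neg]
    intro e
    apply h
    have := congrArg gidx e
    rwa [gidx_ofIdx ⟨j, hj'⟩, gidx_ofIdx ⟨k, hk⟩] at this

theorem WRep.ext_basis {Ns Ms : List ℕ} {g h : ↥Co0} (hg : WRep Ns g) (hh : WRep Ms h)
    (H : ∀ k : Fin 24, evalL Ns (b8 k.1) = evalL Ms (b8 k.1)) : g = h := by
  apply ext_s8
  intro p
  apply Subtype.ext
  apply vecL_inj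
  have hp := vecL_s8 (gidx p) (gidx_lt p)
  rw [ofIdx_gidx] at hp
  rw [hg (s8 p), hh (s8 p), hp]
  exact H ⟨gidx p, gidx_lt p⟩

theorem MatRep.inv {N Nt : ℕ} {g : ↥Co0} (h : MatRep (mfun N) g) (hok : MatOk N Nt) :
    MatRep (mfun Nt) g⁻¹ := by
  intro x q
  set y := g⁻¹.1 x with hy
  have hgy : g.1 y = x := by
    show (g * g⁻¹).1 x = x
    rw [mul_inv_cancel]
    rfl
  have e1 : (8 : ℤ) • x.1 = lapply (mfun N) y.1 := by
    funext q'
    have := h y q'
    rw [hgy] at this
    exact this
  have e2 : lapply (mT (mfun N)) ((8 : ℤ) • x.1) = (64 : ℤ) • y.1 := by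
    rw [e1, lapply_mT_lapply hok.orth]
  rw [lapply_smul, hok.mT] at e2
  have e3 := congrFun e2 q
  simp only [Pi.smul_apply, smul_eq_mul] at e3
  omega

theorem WRep.inv_mat {N Nt : ℕ} {g : ↥Co0} (h : MatRep (mfun N) g) (hok : MatOk N Nt) :
    WRep [Nt] g⁻¹ := WRep.of_mat (h.inv hok)

end Cfsg.Agent.Lib.Helper26.Co1O
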