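import Cfsg.Agent.Lib.Helper26.Co1O.Elts
import Cfsg.Agent.Lib.Helper26.Co1O.PermE

set_option autoImplicit false
set_option maxRecDepth 1000000

/-!
# The matrices of the powers of the element `c1u` of order 11
-/

namespace Cfsg.Agent.Lib.Helper26.Co1O

open Cfsg

theorem c1u0_w : WRep [] (c1u ^ 0) := by
  rw [pow_zero]; exact WRep.one

theorem c1u1_w : WRep [c1U] (c1u ^ 1) := by
  rw [pow_one]; exact c1u_w

theorem c1u2_rep : MatRep (mfun c1U2) (c1u ^ 2) := by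
  rw [pow_two]; exact MatRep.mul_chk c1u_rep c1u_rep (by decide +kernel)

theorem c1u2_w : WRep [c1U2] (c1u ^ 2) := WRep.of_mat c1u2_rep

theorem c1u3_rep : MatRep (mfun c1U3) (c1u ^ 3) := by
  rw [pow_succ]; exact MatRep.mul_chk c1u2_rep c1u_rep (by decide +kernel)

theorem c1u3_w : WRep [c1U3] (c1u ^ 3) := WRep.of_mat c1u3_rep

theorem c1u4_rep : MatRep (mfun c1U4) (c1u ^ 4) := by
  rw [pow_succ]; exact MatRep.mul_chk c1u3_rep c1u_rep (by decide +kernel)

theorem c1u4_w : WRep [c1U4] (c1u ^ 4) := WRep.of_mat c1u4_rep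

theorem c1u5_rep : MatRep (mfun c1U5) (c1u ^ 5) := by
  rw [pow_succ]; exact MatRep.mul_chk c1u4_rep c1u_rep (by decide +kernel)

theorem c1u5_w : WRep [c1U5] (c1u ^ 5) := WRep.of_mat c1u5_rep

theorem c1u6_rep : MatRep (mfun c1U6) (c1u ^ 6) := by
  rw [pow_succ]; exact MatRep.mul_chk c1u5_rep c1u_rep (by decide +kernel)

theorem c1u6_w : WRep [c1U6] (c1u ^ 6) := WRep.of_mat c1u6_rep

theorem c1u7_rep : MatRep (mfun c1U7) (c1u ^ 7) := by
  rw [pow_succ]; exact MatRep.mul_chk c1u6_rep c1u_rep (by decide +kernel)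

theorem c1u7_w : WRep [c1U7] (c1u ^ 7) := WRep.of_mat c1u7_rep

theorem c1u8_rep : MatRep (mfun c1U8) (c1u ^ 8) := by
  rw [pow_succ]; exact MatRep.mul_chk c1u7_rep c1u_rep (by decide +kernel)

theorem c1u8_w : WRep [c1U8] (c1u ^ 8) := WRep.of_mat c1u8_rep

theorem c1u9_rep : MatRep (mfun c1U9) (c1u ^ 9) := by
  rw [pow_succ]; exact MatRep.mul_chk c1u8_rep c1u_rep (by decide +kernel)

theorem c1u9_w : WRep [c1U9] (c1u ^ 9) := WRep.of_mat c1u9_rep

theorem c1u10_rep : MatRep (mfun c1U10) (c1u ^ 10) := by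
  rw [pow_succ]; exact MatRep.mul_chk c1u9_rep c1u_rep (by decide +kernel)

theorem c1u10_w : WRep [c1U10] (c1u ^ 10) := WRep.of_mat c1u10_rep

end Cfsg.Agent.Lib.Helper26.Co1O
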