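import Cfsg.Agent.Lib.Helper26.Co1O.Cent
import Cfsg.Agent.Lib.Helper26.Co1O.UPow

set_option autoImplicit false
set_option maxRecDepth 1000000

/-!
# Showing that two products of matrices differ modulo the centre
-/

namespace Cfsg.Agent.Lib.Helper26.Co1O

open Cfsg Cfsg.Agent.Lib.helper7.Co1 Cfsg.Agent.Lib.Lead.CW Subgroup

/-- two products of matrices map `8 e_0` to vectors that are neither equal nor opposite -/
def wchk2 (Ns Ms : List ℕ) : Bool :=
  evalL Ns (b8 0) != evalL Ms (b8 0) && evalL Ns (b8 0) != (evalL Ms (b8 0)).map (fun a => -a)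

theorem pi_ne_of_chk {Ns Ms : List ℕ} {g h : ↥Co0} (hg : WRep Ns g) (hh : WRep Ms h)
    (H : wchk2 Ns Ms = true) : c1pi g ≠ c1pi h := by
  unfold wchk2 at H
  rw [Bool.and_eq_true, bne_iff_ne, bne_iff_ne] at H
  have e0 : vecL (s8 (ofIdx 0)).1 = b8 0 := vecL_s8 0 (by norm_num)
  have eg := hg (s8 (ofIdx 0))
  have eh := hh (s8 (ofIdx 0))
  rw [e0] at eg eh
  intro e
  rcases c1pi_eq e with h1 | h1
  · apply H.1
    rw [← eg, ← eh, h1]
  · apply H.2
    rw [← eg, ← eh, h1, negE_mul_apply]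
    show _ = List.map _ (vecL (-(g.1 (s8 (ofIdx 0))).1))
    rw [vecL_neg, List.map_map]
    have : ((fun a : ℤ => -a) ∘ fun a : ℤ => -a) = id := by
      funext a
      simp
    rw [this, List.map_id]

theorem pi_ne_one {Ns : List ℕ} {g : ↥Co0} (hg : WRep Ns g) (H : wchk2 Ns [] = true) :
    c1pi g ≠ 1 := by
  rw [← map_one c1pi]
  exact pi_ne_of_chk hg WRep.one H

theorem c1W_w {Ns Ms : List ℕ} {x y : ↥Co0} (hx : WRep Ns x) (hy : WRep Ms y) :
    WRep (Ns ++ Ns ++ Ns ++ Ms ++ Ns ++ Ms) (c1W x y) :=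
  ((((hx.mul hx).mul hx).mul hy).mul hx).mul hy

end Cfsg.Agent.Lib.Helper26.Co1O
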