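import Cfsg.Agent.Lib.Helper26.Co1O.Kill

set_option autoImplicit false
set_option maxRecDepth 1000000
set_option Elab.async false

/-!
# Candidates excluded by the relation `t ^ 2 = 1`
-/

namespace Cfsg.Agent.Lib.Helper26.Co1O

open Cfsg


theorem killA1_0 : c1pi ((c1t * (c1z1 * c1u ^ 0)) * (c1t * (c1z1 * c1u ^ 0))) ≠ 1 :=
  pi_ne_one ((c1t_w.mul (c1z1_w.mul c1u0_w)).mul (c1t_w.mul (c1z1_w.mul c1u0_w))) (by decide +kernel)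

theorem killA1_1 : c1pi ((c1t * (c1z1 * c1u ^ 1)) * (c1t * (c1z1 * c1u ^ 1))) ≠ 1 :=
  pi_ne_one ((c1t_w.mul (c1z1_w.mul c1u1_w)).mul (c1t_w.mul (c1z1_w.mul c1u1_w))) (by decide +kernel)

theorem killA1_2 : c1pi ((c1t * (c1z1 * c1u ^ 2)) * (c1t * (c1z1 * c1u ^ 2))) ≠ 1 :=
  pi_ne_one ((c1t_w.mul (c1z1_w.mul c1u2_w)).mul (c1t_w.mul (c1z1_w.mul c1u2_w))) (by decide +kernel)

theorem killA1_3 : c1pi ((c1t * (c1z1 * c1u ^ 3)) * (c1t * (c1z1 * c1u ^ 3))) ≠ 1 :=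
  pi_ne_one ((c1t_w.mul (c1z1_w.mul c1u3_w)).mul (c1t_w.mul (c1z1_w.mul c1u3_w))) (by decide +kernel)

theorem killA1_4 : c1pi ((c1t * (c1z1 * c1u ^ 4)) * (c1t * (c1z1 * c1u ^ 4))) ≠ 1 :=
  pi_ne_one ((c1t_w.mul (c1z1_w.mul c1u4_w)).mul (c1t_w.mul (c1z1_w.mul c1u4_w))) (by decide +kernel)

theorem killA1_5 : c1pi ((c1t * (c1z1 * c1u ^ 5)) * (c1t * (c1z1 * c1u ^ 5))) ≠ 1 :=
  pi_ne_one ((c1t_w.mul (c1z1_w.mul c1u5_w)).mul (c1t_w.mul (c1z1_w.mul c1u5_w))) (by decide +kernel)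

theorem killA1_6 : c1pi ((c1t * (c1z1 * c1u ^ 6)) * (c1t * (c1z1 * c1u ^ 6))) ≠ 1 :=
  pi_ne_one ((c1t_w.mul (c1z1_w.mul c1u6_w)).mul (c1t_w.mul (c1z1_w.mul c1u6_w))) (by decide +kernel)

theorem killA1_7 : c1pi ((c1t * (c1z1 * c1u ^ 7)) * (c1t * (c1z1 * c1u ^ 7))) ≠ 1 :=
  pi_ne_one ((c1t_w.mul (c1z1_w.mul c1u7_w)).mul (c1t_w.mul (c1z1_w.mul c1u7_w))) (by decide +kernel)

theorem killA1_8 : c1pi ((c1t * (c1z1 * c1u ^ 8)) * (c1t * (c1z1 * c1u ^ 8))) ≠ 1 :=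
  pi_ne_one ((c1t_w.mul (c1z1_w.mul c1u8_w)).mul (c1t_w.mul (c1z1_w.mul c1u8_w))) (by decide +kernel)

theorem killA1_9 : c1pi ((c1t * (c1z1 * c1u ^ 9)) * (c1t * (c1z1 * c1u ^ 9))) ≠ 1 :=
  pi_ne_one ((c1t_w.mul (c1z1_w.mul c1u9_w)).mul (c1t_w.mul (c1z1_w.mul c1u9_w))) (by decide +kernel)

theorem killA1_10 : c1pi ((c1t * (c1z1 * c1u ^ 10)) * (c1t * (c1z1 * c1u ^ 10))) ≠ 1 :=
  pi_ne_one ((c1t_w.mul (c1z1_w.mul c1u10_w)).mul (c1t_w.mul (c1z1_w.mul c1u10_w))) (by decide +kernel)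

theorem killA1 : ∀ j, j < 11 → c1pi ((c1t * (c1z1 * c1u ^ j)) * (c1t * (c1z1 * c1u ^ j))) ≠ 1 := by
  intro j hj
  interval_cases j
  · exact killA1_0
  · exact killA1_1
  · exact killA1_2
  · exact killA1_3
  · exact killA1_4
  · exact killA1_5
  · exact killA1_6
  · exact killA1_7
  · exact killA1_8
  · exact killA1_9
  · exact killA1_10

theorem killA5_0 : c1pi ((c1t * (c1z5 * c1u ^ 0)) * (c1t * (c1z5 * c1u ^ 0))) ≠ 1 :=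
  pi_ne_one ((c1t_w.mul (c1z5_w.mul c1u0_w)).mul (c1t_w.mul (c1z5_w.mul c1u0_w))) (by decide +kernel)

theorem killA5_1 : c1pi ((c1t * (c1z5 * c1u ^ 1)) * (c1t * (c1z5 * c1u ^ 1))) ≠ 1 :=
  pi_ne_one ((c1t_w.mul (c1z5_w.mul c1u1_w)).mul (c1t_w.mul (c1z5_w.mul c1u1_w))) (by decide +kernel)

theorem killA5_2 : c1pi ((c1t * (c1z5 * c1u ^ 2)) * (c1t * (c1z5 * c1u ^ 2))) ≠ 1 :=
  pi_ne_one ((c1t_w.mul (c1z5_w.mul c1u2_w)).mul (c1t_w.mul (c1z5_w.mul c1u2_w))) (by decide +kernel)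

theorem killA5_3 : c1pi ((c1t * (c1z5 * c1u ^ 3)) * (c1t * (c1z5 * c1u ^ 3))) ≠ 1 :=
  pi_ne_one ((c1t_w.mul (c1z5_w.mul c1u3_w)).mul (c1t_w.mul (c1z5_w.mul c1u3_w))) (by decide +kernel)

theorem killA5_4 : c1pi ((c1t * (c1z5 * c1u ^ 4)) * (c1t * (c1z5 * c1u ^ 4))) ≠ 1 :=
  pi_ne_one ((c1t_w.mul (c1z5_w.mul c1u4_w)).mul (c1t_w.mul (c1z5_w.mul c1u4_w))) (by decide +kernel)

theorem killA5_5 : c1pi ((c1t * (c1z5 * c1u ^ 5)) * (c1t * (c1z5 * c1u ^ 5))) ≠ 1 :=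
  pi_ne_one ((c1t_w.mul (c1z5_w.mul c1u5_w)).mul (c1t_w.mul (c1z5_w.mul c1u5_w))) (by decide +kernel)

theorem killA5_6 : c1pi ((c1t * (c1z5 * c1u ^ 6)) * (c1t * (c1z5 * c1u ^ 6))) ≠ 1 :=
  pi_ne_one ((c1t_w.mul (c1z5_w.mul c1u6_w)).mul (c1t_w.mul (c1z5_w.mul c1u6_w))) (by decide +kernel)

theorem killA5_7 : c1pi ((c1t * (c1z5 * c1u ^ 7)) * (c1t * (c1z5 * c1u ^ 7))) ≠ 1 :=
  pi_ne_one ((c1t_w.mul (c1z5_w.mul c1u7_w)).mul (c1t_w.mul (c1z5_w.mul c1u7_w))) (by decide +kernel)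

theorem killA5_8 : c1pi ((c1t * (c1z5 * c1u ^ 8)) * (c1t * (c1z5 * c1u ^ 8))) ≠ 1 :=
  pi_ne_one ((c1t_w.mul (c1z5_w.mul c1u8_w)).mul (c1t_w.mul (c1z5_w.mul c1u8_w))) (by decide +kernel)

theorem killA5_9 : c1pi ((c1t * (c1z5 * c1u ^ 9)) * (c1t * (c1z5 * c1u ^ 9))) ≠ 1 :=
  pi_ne_one ((c1t_w.mul (c1z5_w.mul c1u9_w)).mul (c1t_w.mul (c1z5_w.mul c1u9_w))) (by decide +kernel)

theorem killA5_10 : c1pi ((c1t * (c1z5 * c1u ^ 10)) * (c1t * (c1z5 * c1u ^ 10))) ≠ 1 :=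
  pi_ne_one ((c1t_w.mul (c1z5_w.mul c1u10_w)).mul (c1t_w.mul (c1z5_w.mul c1u10_w))) (by decide +kernel)

theorem killA5 : ∀ j, j < 11 → c1pi ((c1t * (c1z5 * c1u ^ j)) * (c1t * (c1z5 * c1u ^ j))) ≠ 1 := by
  intro j hj
  interval_cases j
  · exact killA5_0
  · exact killA5_1
  · exact killA5_2
  · exact killA5_3
  · exact killA5_4
  · exact killA5_5
  · exact killA5_6
  · exact killA5_7
  · exact killA5_8
  · exact killA5_9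
  · exact killA5_10

end Cfsg.Agent.Lib.Helper26.Co1O
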