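import Cfsg.Agent.Lib.Helper26.Co1O.Kill

set_option autoImplicit false
set_option maxRecDepth 1000000
set_option Elab.async false

/-!
# Candidates with `c1z2` excluded by the relation of order 7, the element of order 23 inverted
-/

namespace Cfsg.Agent.Lib.Helper26.Co1O

open Cfsg


theorem killC2_0 : c1pi (c1W c1c⁻¹ (c1t * (c1z2 * c1u ^ 0)) ^ 7) ≠ 1 :=
  pi_ne_one ((c1W_w c1c_wi (c1t_w.mul (c1z2_w.mul c1u0_w))).pow 7) (by decide +kernel)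

theorem killC2_1 : c1pi (c1W c1c⁻¹ (c1t * (c1z2 * c1u ^ 1)) ^ 7) ≠ 1 :=
  pi_ne_one ((c1W_w c1c_wi (c1t_w.mul (c1z2_w.mul c1u1_w))).pow 7) (by decide +kernel)

theorem killC2_2 : c1pi (c1W c1c⁻¹ (c1t * (c1z2 * c1u ^ 2)) ^ 7) ≠ 1 :=
  pi_ne_one ((c1W_w c1c_wi (c1t_w.mul (c1z2_w.mul c1u2_w))).pow 7) (by decide +kernel)

theorem killC2_3 : c1pi (c1W c1c⁻¹ (c1t * (c1z2 * c1u ^ 3)) ^ 7) ≠ 1 :=
  pi_ne_one ((c1W_w c1c_wi (c1t_w.mul (c1z2_w.mul c1u3_w))).pow 7) (by decide +kernel)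

theorem killC2_4 : c1pi (c1W c1c⁻¹ (c1t * (c1z2 * c1u ^ 4)) ^ 7) ≠ 1 :=
  pi_ne_one ((c1W_w c1c_wi (c1t_w.mul (c1z2_w.mul c1u4_w))).pow 7) (by decide +kernel)

theorem killC2_5 : c1pi (c1W c1c⁻¹ (c1t * (c1z2 * c1u ^ 5)) ^ 7) ≠ 1 :=
  pi_ne_one ((c1W_w c1c_wi (c1t_w.mul (c1z2_w.mul c1u5_w))).pow 7) (by decide +kernel)

theorem killC2_6 : c1pi (c1W c1c⁻¹ (c1t * (c1z2 * c1u ^ 6)) ^ 7) ≠ 1 :=
  pi_ne_one ((c1W_w c1c_wi (c1t_w.mul (c1z2_w.mul c1u6_w))).pow 7) (by decide +kernel)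

theorem killC2_7 : c1pi (c1W c1c⁻¹ (c1t * (c1z2 * c1u ^ 7)) ^ 7) ≠ 1 :=
  pi_ne_one ((c1W_w c1c_wi (c1t_w.mul (c1z2_w.mul c1u7_w))).pow 7) (by decide +kernel)

theorem killC2_8 : c1pi (c1W c1c⁻¹ (c1t * (c1z2 * c1u ^ 8)) ^ 7) ≠ 1 :=
  pi_ne_one ((c1W_w c1c_wi (c1t_w.mul (c1z2_w.mul c1u8_w))).pow 7) (by decide +kernel)

theorem killC2_9 : c1pi (c1W c1c⁻¹ (c1t * (c1z2 * c1u ^ 9)) ^ 7) ≠ 1 :=
  pi_ne_one ((c1W_w c1c_wi (c1t_w.mul (c1z2_w.mul c1u9_w))).pow 7) (by decide +kernel)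

theorem killC2_10 : c1pi (c1W c1c⁻¹ (c1t * (c1z2 * c1u ^ 10)) ^ 7) ≠ 1 :=
  pi_ne_one ((c1W_w c1c_wi (c1t_w.mul (c1z2_w.mul c1u10_w))).pow 7) (by decide +kernel)

theorem killC2 : ∀ j, j < 11 → c1pi (c1W c1c⁻¹ (c1t * (c1z2 * c1u ^ j)) ^ 7) ≠ 1 := by
  intro j hj
  interval_cases j
  · exact killC2_0
  · exact killC2_1
  · exact killC2_2
  · exact killC2_3
  · exact killC2_4
  · exact killC2_5
  · exact killC2_6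
  · exact killC2_7
  · exact killC2_8
  · exact killC2_9
  · exact killC2_10

end Cfsg.Agent.Lib.Helper26.Co1O
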