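import Cfsg.Agent.Lib.Helper26.Co1O.Kill

set_option autoImplicit false
set_option maxRecDepth 1000000
set_option Elab.async false

/-!
# The powers of `c1u` do not commute with `c1h` modulo the centre
-/

namespace Cfsg.Agent.Lib.Helper26.Co1O

open Cfsg


theorem killH0_1 : c1pi (((1 : ↥Co0) * c1u ^ 1) * c1h) ≠ c1pi (c1h * ((1 : ↥Co0) * c1u ^ 1)) :=
  pi_ne_of_chk ((WRep.one.mul c1u1_w).mul c1h_w) (c1h_w.mul (WRep.one.mul c1u1_w)) (by decide +kernel)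

theorem killH0_2 : c1pi (((1 : ↥Co0) * c1u ^ 2) * c1h) ≠ c1pi (c1h * ((1 : ↥Co0) * c1u ^ 2)) :=
  pi_ne_of_chk ((WRep.one.mul c1u2_w).mul c1h_w) (c1h_w.mul (WRep.one.mul c1u2_w)) (by decide +kernel)

theorem killH0_3 : c1pi (((1 : ↥Co0) * c1u ^ 3) * c1h) ≠ c1pi (c1h * ((1 : ↥Co0) * c1u ^ 3)) :=
  pi_ne_of_chk ((WRep.one.mul c1u3_w).mul c1h_w) (c1h_w.mul (WRep.one.mul c1u3_w)) (by decide +kernel)

theorem killH0_4 : c1pi (((1 : ↥Co0) * c1u ^ 4) * c1h) ≠ c1pi (c1h * ((1 : ↥Co0) * c1u ^ 4)) :=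
  pi_ne_of_chk ((WRep.one.mul c1u4_w).mul c1h_w) (c1h_w.mul (WRep.one.mul c1u4_w)) (by decide +kernel)

theorem killH0_5 : c1pi (((1 : ↥Co0) * c1u ^ 5) * c1h) ≠ c1pi (c1h * ((1 : ↥Co0) * c1u ^ 5)) :=
  pi_ne_of_chk ((WRep.one.mul c1u5_w).mul c1h_w) (c1h_w.mul (WRep.one.mul c1u5_w)) (by decide +kernel)

theorem killH0_6 : c1pi (((1 : ↥Co0) * c1u ^ 6) * c1h) ≠ c1pi (c1h * ((1 : ↥Co0) * c1u ^ 6)) :=
  pi_ne_of_chk ((WRep.one.mul c1u6_w).mul c1h_w) (c1h_w.mul (WRep.one.mul c1u6_w)) (by decide +kernel)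

theorem killH0_7 : c1pi (((1 : ↥Co0) * c1u ^ 7) * c1h) ≠ c1pi (c1h * ((1 : ↥Co0) * c1u ^ 7)) :=
  pi_ne_of_chk ((WRep.one.mul c1u7_w).mul c1h_w) (c1h_w.mul (WRep.one.mul c1u7_w)) (by decide +kernel)

theorem killH0_8 : c1pi (((1 : ↥Co0) * c1u ^ 8) * c1h) ≠ c1pi (c1h * ((1 : ↥Co0) * c1u ^ 8)) :=
  pi_ne_of_chk ((WRep.one.mul c1u8_w).mul c1h_w) (c1h_w.mul (WRep.one.mul c1u8_w)) (by decide +kernel)

theorem killH0_9 : c1pi (((1 : ↥Co0) * c1u ^ 9) * c1h) ≠ c1pi (c1h * ((1 : ↥Co0) * c1u ^ 9)) :=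
  pi_ne_of_chk ((WRep.one.mul c1u9_w).mul c1h_w) (c1h_w.mul (WRep.one.mul c1u9_w)) (by decide +kernel)

theorem killH0_10 : c1pi (((1 : ↥Co0) * c1u ^ 10) * c1h) ≠ c1pi (c1h * ((1 : ↥Co0) * c1u ^ 10)) :=
  pi_ne_of_chk ((WRep.one.mul c1u10_w).mul c1h_w) (c1h_w.mul (WRep.one.mul c1u10_w)) (by decide +kernel)

theorem killH0 : ∀ j, j < 11 → j ≠ 0 → c1pi (((1 : ↥Co0) * c1u ^ j) * c1h) ≠ c1pi (c1h * ((1 : ↥Co0) * c1u ^ j)) := by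
  intro j hj h0
  interval_cases j
  · exact absurd rfl h0
  · exact killH0_1
  · exact killH0_2
  · exact killH0_3
  · exact killH0_4
  · exact killH0_5
  · exact killH0_6
  · exact killH0_7
  · exact killH0_8
  · exact killH0_9
  · exact killH0_10

end Cfsg.Agent.Lib.Helper26.Co1O
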