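import Cfsg.Agent.Lib.Helper26.Co1O.Kill

set_option autoImplicit false
set_option maxRecDepth 1000000
set_option Elab.async false

/-!
# The elements `c1z5 * c1u ^ j` do not commute with `c1h` modulo the centre
-/

namespace Cfsg.Agent.Lib.Helper26.Co1O

open Cfsg


theorem killH5_0 : c1pi ((c1z5 * c1u ^ 0) * c1h) ≠ c1pi (c1h * (c1z5 * c1u ^ 0)) :=
  pi_ne_of_chk ((c1z5_w.mul c1u0_w).mul c1h_w) (c1h_w.mul (c1z5_w.mul c1u0_w)) (by decide +kernel)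

theorem killH5_1 : c1pi ((c1z5 * c1u ^ 1) * c1h) ≠ c1pi (c1h * (c1z5 * c1u ^ 1)) :=
  pi_ne_of_chk ((c1z5_w.mul c1u1_w).mul c1h_w) (c1h_w.mul (c1z5_w.mul c1u1_w)) (by decide +kernel)

theorem killH5_2 : c1pi ((c1z5 * c1u ^ 2) * c1h) ≠ c1pi (c1h * (c1z5 * c1u ^ 2)) :=
  pi_ne_of_chk ((c1z5_w.mul c1u2_w).mul c1h_w) (c1h_w.mul (c1z5_w.mul c1u2_w)) (by decide +kernel)

theorem killH5_3 : c1pi ((c1z5 * c1u ^ 3) * c1h) ≠ c1pi (c1h * (c1z5 * c1u ^ 3)) :=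
  pi_ne_of_chk ((c1z5_w.mul c1u3_w).mul c1h_w) (c1h_w.mul (c1z5_w.mul c1u3_w)) (by decide +kernel)

theorem killH5_4 : c1pi ((c1z5 * c1u ^ 4) * c1h) ≠ c1pi (c1h * (c1z5 * c1u ^ 4)) :=
  pi_ne_of_chk ((c1z5_w.mul c1u4_w).mul c1h_w) (c1h_w.mul (c1z5_w.mul c1u4_w)) (by decide +kernel)

theorem killH5_5 : c1pi ((c1z5 * c1u ^ 5) * c1h) ≠ c1pi (c1h * (c1z5 * c1u ^ 5)) :=
  pi_ne_of_chk ((c1z5_w.mul c1u5_w).mul c1h_w) (c1h_w.mul (c1z5_w.mul c1u5_w)) (by decide +kernel)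

theorem killH5_6 : c1pi ((c1z5 * c1u ^ 6) * c1h) ≠ c1pi (c1h * (c1z5 * c1u ^ 6)) :=
  pi_ne_of_chk ((c1z5_w.mul c1u6_w).mul c1h_w) (c1h_w.mul (c1z5_w.mul c1u6_w)) (by decide +kernel)

theorem killH5_7 : c1pi ((c1z5 * c1u ^ 7) * c1h) ≠ c1pi (c1h * (c1z5 * c1u ^ 7)) :=
  pi_ne_of_chk ((c1z5_w.mul c1u7_w).mul c1h_w) (c1h_w.mul (c1z5_w.mul c1u7_w)) (by decide +kernel)

theorem killH5_8 : c1pi ((c1z5 * c1u ^ 8) * c1h) ≠ c1pi (c1h * (c1z5 * c1u ^ 8)) :=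
  pi_ne_of_chk ((c1z5_w.mul c1u8_w).mul c1h_w) (c1h_w.mul (c1z5_w.mul c1u8_w)) (by decide +kernel)

theorem killH5_9 : c1pi ((c1z5 * c1u ^ 9) * c1h) ≠ c1pi (c1h * (c1z5 * c1u ^ 9)) :=
  pi_ne_of_chk ((c1z5_w.mul c1u9_w).mul c1h_w) (c1h_w.mul (c1z5_w.mul c1u9_w)) (by decide +kernel)

theorem killH5_10 : c1pi ((c1z5 * c1u ^ 10) * c1h) ≠ c1pi (c1h * (c1z5 * c1u ^ 10)) :=
  pi_ne_of_chk ((c1z5_w.mul c1u10_w).mul c1h_w) (c1h_w.mul (c1z5_w.mul c1u10_w)) (by decide +kernel)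

theorem killH5 : ∀ j, j < 11 → c1pi ((c1z5 * c1u ^ j) * c1h) ≠ c1pi (c1h * (c1z5 * c1u ^ j)) := by
  intro j hj
  interval_cases j
  · exact killH5_0
  · exact killH5_1
  · exact killH5_2
  · exact killH5_3
  · exact killH5_4
  · exact killH5_5
  · exact killH5_6
  · exact killH5_7
  · exact killH5_8
  · exact killH5_9
  · exact killH5_10

end Cfsg.Agent.Lib.Helper26.Co1O
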