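import Cfsg.Agent.Lib.Helper26.Co1O.Elts
import Cfsg.Agent.Lib.helper14.MSj

set_option autoImplicit false
set_option maxRecDepth 1000000

/-!
# Lifting elements of the concrete group on 4600 points to `Co0`

An element `σ` of helper14's `M4600` is the image of a unique element of `Co₂`; an element of `Co0`
given by matrices is this lift as soon as it maps the 24 vectors `8 e_p` (each a combination of two
of the 4600 vectors) as `σ` prescribes.
-/

namespace Cfsg.Agent.Lib.Helper26.Co1O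

open Cfsg Cfsg.Agent.Lib.helper14.MS Cfsg.Agent.Lib.Lead.CW Cfsg.Agent.Lib.helper3 Subgroup

theorem msRho_range : msRho.range = M4600 := by
  have : Finite ↥msRho.range := Nat.finite_of_card_ne_zero (by rw [range_card]; norm_num)
  exact (Subgroup.eq_of_le_of_card_ge M4600_le (by rw [range_card, M4600_card])).symm

theorem exists_lift (σ : Equiv.Perm (Fin 4600)) (hσ : σ ∈ M4600) :
    ∃ g : ↥Spor.Co2, msRho g = σ := by
  rw [← msRho_range] at hσ
  exact hσ

/-- the element of `Co₂` inducing a given element of the concrete group -/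
noncomputable def liftS (σ : Equiv.Perm (Fin 4600)) (hσ : σ ∈ M4600) : ↥Spor.Co2 :=
  Classical.choose (exists_lift σ hσ)

theorem msRho_liftS (σ : Equiv.Perm (Fin 4600)) (hσ : σ ∈ M4600) : msRho (liftS σ hσ) = σ :=
  Classical.choose_spec (exists_lift σ hσ)

/-- the lift as an element of `Co0` -/
noncomputable def liftE (σ : Equiv.Perm (Fin 4600)) (hσ : σ ∈ M4600) : ↥Co0 :=
  ⟨(liftS σ hσ).1, (mem_co2_iff.1 (liftS σ hσ).2).1⟩

theorem liftE_pt (σ : Equiv.Perm (Fin 4600)) (hσ : σ ∈ M4600) (i : Fin 4600) :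
    (liftE σ hσ).1 (msPt i) = msPt (σ i) := by
  have h := msRho_apply (liftS σ hσ) i
  rw [msRho_liftS] at h
  exact h.symm

theorem liftE_U (σ : Equiv.Perm (Fin 4600)) (hσ : σ ∈ M4600) :
    (liftE σ hσ).1 Spor.leechU = Spor.leechU := (mem_co2_iff.1 (liftS σ hσ).2).2

/-- the integer combination of two lists -/
def combL (a b : ℤ) (v w : List ℤ) : List ℤ :=
  (List.range 24).map (fun k => a * v.getD k 0 + b * w.getD k 0)

theorem vecL_comb (a b : ℤ) (x y : V) : vecL (a • x + b • y) = combL a b (vecL x) (vecL y) := by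
  unfold combL
  show (List.range 24).map _ = _
  apply List.map_congr_left
  intro k hk
  have hk' : k < 24 := List.mem_range.1 hk
  rw [vecL_getD x k hk', vecL_getD y k hk']
  rfl

/-- the first vector of the combination giving `8 e_k` -/
def liI : List ℕ := [4578, 22, 23, 24, 25, 26, 27, 28, 29, 30, 31, 32, 33, 34, 35, 36, 37, 38, 39,
  40, 41, 42, 43, 22]

/-- the second vector of the combination giving `8 e_k` -/
def liJ : List ℕ := [4577, 21, 20, 19, 18, 17, 16, 15, 14, 13, 12, 11, 10, 9, 8, 7, 6, 5, 4, 3, 2,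
  1, 0, 21]

/-- the first coefficient -/
def liA (k : ℕ) : ℤ := if k = 0 ∨ k = 23 then -1 else 1

theorem li_lt : ∀ k : Fin 24, liI.getD k.1 0 < 4600 ∧ liJ.getD k.1 0 < 4600 := by decide

theorem li_chk : ∀ k : Fin 24,
    combL (liA k.1) (-1) (vecL (msV (liI.getD k.1 0))) (vecL (msV (liJ.getD k.1 0))) = b8 k.1 := by
  decide +kernel

theorem s8_comb (k : Fin 24) :
    s8 (ofIdx k.1) = liA k.1 • msPt ⟨liI.getD k.1 0, (li_lt k).1⟩ +
      (-1 : ℤ) • msPt ⟨liJ.getD k.1 0, (li_lt k).2⟩ := by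
  apply Subtype.ext
  apply vecL_inj
  rw [vecL_s8 k.1 k.2]
  show _ = vecL (liA k.1 • msV (liI.getD k.1 0) + (-1 : ℤ) • msV (liJ.getD k.1 0))
  rw [vecL_comb]
  exact (li_chk k).symm

/-- an element of `Co0` given by matrices is the lift of `σ` if it maps the `8 e_p` accordingly -/
theorem eq_liftE {Ns : List ℕ} {g : ↥Co0} (hg : WRep Ns g) (σ : Equiv.Perm (Fin 4600))
    (hσ : σ ∈ M4600) (T : ℕ → ℕ) (hT : ∀ i : Fin 4600, (σ i).1 = T i.1)
    (H : ∀ k : Fin 24, evalL Ns (b8 k.1) =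
      combL (liA k.1) (-1) (vecL (msV (T (liI.getD k.1 0)))) (vecL (msV (T (liJ.getD k.1 0))))) :
    g = liftE σ hσ := by
  apply ext_s8
  intro p
  obtain ⟨k, rfl⟩ : ∃ k : Fin 24, p = ofIdx k.1 := ⟨⟨gidx p, gidx_lt p⟩, (ofIdx_gidx p).symm⟩
  apply Subtype.ext
  apply vecL_inj
  rw [hg (s8 (ofIdx k.1)), vecL_s8 k.1 k.2, H k, s8_comb k]
  have e : (liftE σ hσ).1 (liA k.1 • msPt ⟨liI.getD k.1 0, (li_lt k).1⟩ +
      (-1 : ℤ) • msPt ⟨liJ.getD k.1 0, (li_lt k).2⟩) =
      liA k.1 • msPt (σ ⟨liI.getD k.1 0, (li_lt k).1⟩) +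
        (-1 : ℤ) • msPt (σ ⟨liJ.getD k.1 0, (li_lt k).2⟩) := by
    show addHomE (liftE σ hσ) _ = _
    rw [map_add, map_zsmul, map_zsmul]
    show liA k.1 • (liftE σ hσ).1 _ + (-1 : ℤ) • (liftE σ hσ).1 _ = _
    rw [liftE_pt, liftE_pt]
  rw [e]
  show _ = vecL (liA k.1 • msV (σ ⟨liI.getD k.1 0, (li_lt k).1⟩).1 +
    (-1 : ℤ) • msV (σ ⟨liJ.getD k.1 0, (li_lt k).2⟩).1)
  rw [vecL_comb, hT, hT]

end Cfsg.Agent.Lib.Helper26.Co1O
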