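import Cfsg.Agent.Lib.Helper26.Co1O.Lift

set_option autoImplicit false
set_option maxRecDepth 1000000

/-!
# The three elements of `Co₂` given by matrices are the lifts of helper14's permutations
-/

namespace Cfsg.Agent.Lib.Helper26.Co1O

open Cfsg Cfsg.Agent.Lib.helper14.MS Cfsg.Agent.Lib.Lead.CW Cfsg.Agent.Lib.helper3
open Cfsg.Agent.Lib.helper23 Subgroup

theorem c1c_lift : c1c = liftE moSc moSc_mem :=
  eq_liftE c1c_w moSc moSc_mem (fun i => mslk moTc i) (fun i => PFun.perm_apply moPc_ok i)
    (by decide +kernel)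

theorem c1u_lift : c1u = liftE moSu moSu_mem :=
  eq_liftE c1u_w moSu moSu_mem (fun i => mslk moTu i) (fun i => PFun.perm_apply moPu_ok i)
    (by decide +kernel)

theorem c1t_lift : c1t = liftE moSt moSt_mem :=
  eq_liftE c1t_w moSt moSt_mem (fun i => mslk moTt i) (fun i => PFun.perm_apply moPt_ok i)
    (by decide +kernel)

end Cfsg.Agent.Lib.Helper26.Co1O
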