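import Cfsg.Agent.Lib.Helper26.Co1O.KillA
import Cfsg.Agent.Lib.Helper26.Co1O.KillB2
import Cfsg.Agent.Lib.Helper26.Co1O.KillB3
import Cfsg.Agent.Lib.Helper26.Co1O.KillB4
import Cfsg.Agent.Lib.Helper26.Co1O.KillC2
import Cfsg.Agent.Lib.Helper26.Co1O.KillC3
import Cfsg.Agent.Lib.Helper26.Co1O.KillC4
import Cfsg.Agent.Lib.Helper26.Co1O.KillH0
import Cfsg.Agent.Lib.Helper26.Co1O.KillH1
import Cfsg.Agent.Lib.Helper26.Co1O.KillH2
import Cfsg.Agent.Lib.Helper26.Co1O.KillH3
import Cfsg.Agent.Lib.Helper26.Co1O.KillH4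
import Cfsg.Agent.Lib.Helper26.Co1O.KillH5
import Cfsg.Agent.Lib.Helper10.C1ORIGID
import Cfsg.Agent.Lib.Helper13.C1OMAX

set_option autoImplicit false
set_option maxRecDepth 1000000

/-!
# Every automorphism of `Co₁` is inner
-/

namespace Cfsg.Agent.Lib.Helper26.Co1O

open Cfsg Cfsg.Agent.Lib.helper7.Co1 Cfsg.Agent.Lib.helper14.MS Subgroup MulAction

/-- the images in `Co₁` of the elements commuting with `c1u` -/
def c1Y : Set Spor.Co1 := {y | ∃ z ∈ c1zs, ∃ j < 11, y = c1pi (z * c1u ^ j)}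

theorem co1_fact23 : (Nat.card Spor.Co1).factorization 23 = 1 := by
  rw [show Nat.card Spor.Co1 = 4157776806543360000 from card_quot]
  have e : (4157776806543360000 : ℕ) = 23 ^ 1 * 180772904632320000 := by norm_num
  rw [e, Nat.factorization_mul (by norm_num) (by norm_num),
    Nat.Prime.factorization_pow (by norm_num)]
  have : (180772904632320000 : ℕ).factorization 23 = 0 :=
    Nat.factorization_eq_zero_of_not_dvd (by norm_num)
  simp [this]

theorem pi_c_order : orderOf (c1pi c1c) = 23 :=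
  fz_prime c1c 23 (by norm_num) (by norm_num) c1c_order

theorem c1c_pow : c1c ^ 23 = 1 := by
  rw [← c1c_order]; exact pow_orderOf_eq_one c1c

theorem c1u_pow : c1u ^ 11 = 1 := by
  rw [← c1u_order]; exact pow_orderOf_eq_one c1u

theorem fixU_of_list {Ns : List ℕ} {g : ↥Co0} (hg : WRep Ns g)
    (H : evalL Ns (vecL Spor.vecU) = vecL Spor.vecU) : g.1 Spor.leechU = Spor.leechU := by
  apply Subtype.ext
  apply vecL_inj
  rw [hg Spor.leechU]
  exact H

theorem c1h_fix : c1h.1 Spor.leechU = Spor.leechU := fixU_of_list c1h_w (by decide +kernel)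

theorem c1bh_fix : (c1z1 * c1h * c1z1⁻¹).1 Spor.leechU = Spor.leechU :=
  fixU_of_list ((c1z1_w.mul c1h_w).mul c1z1_wi) (by decide +kernel)

theorem c1z1_ne : c1z1.1 Spor.leechU ≠ Spor.leechU := by
  intro h
  have h1 : vecL (c1z1.1 Spor.leechU).1 = vecL Spor.leechU.1 := by rw [h]
  rw [c1z1_w Spor.leechU] at h1
  revert h1
  decide +kernel

theorem c1z1_ne' : c1z1.1 Spor.leechU ≠ -Spor.leechU := by
  intro h
  have h1 : vecL (c1z1.1 Spor.leechU).1 = vecL (-Spor.leechU : ↥leechLattice).1 := by rw [h]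
  rw [c1z1_w Spor.leechU] at h1
  have h2 : vecL (-Spor.leechU : ↥leechLattice).1 = (vecL Spor.vecU).map (fun a => -a) :=
    vecL_neg Spor.vecU
  rw [h2] at h1
  revert h1
  decide +kernel

theorem map_closure_pair (a b : ↥Co0) :
    (closure ({a, b} : Set ↥Co0)).map c1pi = closure ({c1pi a, c1pi b} : Set Spor.Co1) := by
  rw [MonoidHom.map_closure, Set.image_pair]

theorem mem_closure_of_fix (g : ↥Co0) (hg : g.1 Spor.leechU = Spor.leechU) :
    c1pi g ∈ closure ({c1pi c1c, c1pi c1t} : Set Spor.Co1) := by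
  rw [← map_closure_pair]
  exact mem_map_of_mem _ (gen_fix g hg)

theorem co1_gen : closure ({c1pi c1c, c1pi c1t, c1pi c1z1} : Set Spor.Co1) = ⊤ := by
  set M : Subgroup ↥Co0 := closure ({c1c, c1t, c1z1, negE} : Set ↥Co0) with hM
  have hneg : negE ∈ M := subset_closure (by simp)
  have hst : stabilizer ↥Co0 Spor.leechU ≤ M := by
    intro g hg
    have h1 : g.1 Spor.leechU = Spor.leechU := mem_stabilizer_iff.1 hg
    have h2 := gen_fix g h1
    refine (Subgroup.closure_mono ?_) h2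
    intro x hx
    rcases hx with rfl | rfl
    · simp
    · simp
  have hb : c1z1 ∈ M := subset_closure (by simp)
  have htop : M = ⊤ :=
    Cfsg.Agent.Lib.Helper13.Co1O.stab_max Spor.leechU leechU_norm M hneg hst c1z1 hb c1z1_ne
      c1z1_ne'
  have h3 : M.map c1pi = ⊤ := by
    rw [htop]
    exact map_top_of_surjective _ c1pi_surj
  rw [hM, MonoidHom.map_closure] at h3
  rw [eq_top_iff, ← h3, closure_le]
  rintro x ⟨g, hg, rfl⟩
  rcases hg with rfl | rfl | rfl | rfl
  · exact subset_closure (by simp)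
  · exact subset_closure (by simp)
  · exact subset_closure (by simp)
  · rw [c1pi_negE]
    exact one_mem _

theorem moW_mem {G : Type*} [Group G] (S : Subgroup G) (x y : G) (hx : x ∈ S) (hy : y ∈ S) :
    moW x y ∈ S := by
  unfold moW
  repeat' apply S.mul_mem
  all_goals assumption

theorem c1c_stab : c1c ∈ stabilizer ↥Co0 Spor.leechU := mem_stabilizer_iff.2 c1c_fix

theorem c1u_stab : c1u ∈ stabilizer ↥Co0 Spor.leechU := mem_stabilizer_iff.2 c1u_fix

theorem c1t_stab : c1t ∈ stabilizer ↥Co0 Spor.leechU := mem_stabilizer_iff.2 c1t_fix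

theorem negE_not_stab : negE ∉ stabilizer ↥Co0 Spor.leechU := by
  intro h
  have h1 : negE.1 Spor.leechU = Spor.leechU := mem_stabilizer_iff.1 h
  rw [negE_apply] at h1
  exact ne_neg_self _ leechU_norm h1.symm

theorem pi_ne_one_of_stab (g : ↥Co0) (hg : g ∈ stabilizer ↥Co0 Spor.leechU) (h1 : g ≠ 1) :
    c1pi g ≠ 1 := by
  intro h
  rcases c1pi_eq_one h with h2 | h2
  · exact h1 h2
  · rw [h2] at hg
    exact negE_not_stab hg

theorem killP (j : ℕ) (hj : j < 11) (h0 : j ≠ 0) :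
    c1pi (moW c1c (c1t * ((1 : ↥Co0) * c1u ^ j)) ^ 12) ≠ 1 := by
  rw [one_mul]
  apply pi_ne_one_of_stab _ _ (c1bad_pos j hj h0)
  exact pow_mem (moW_mem _ _ _ c1c_stab (mul_mem c1t_stab (pow_mem c1u_stab j))) 12

theorem killN (j : ℕ) (hj : j < 11) :
    c1pi (moW c1c⁻¹ (c1t * ((1 : ↥Co0) * c1u ^ j)) ^ 12) ≠ 1 := by
  rw [one_mul]
  apply pi_ne_one_of_stab _ _ (c1bad_neg j hj)
  exact pow_mem (moW_mem _ _ _ (inv_mem c1c_stab) (mul_mem c1t_stab (pow_mem c1u_stab j))) 12

/-- the first stage: an automorphism with `c ↦ c^{±1}`, `u ↦ u`, `t ↦ t y` is trivial on them -/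
theorem co1_stage1 (γ : MulAut Spor.Co1)
    (hc : γ (c1pi c1c) = c1pi c1c ∨ γ (c1pi c1c) = (c1pi c1c)⁻¹)
    (y : Spor.Co1) (hy : y ∈ c1Y) (ht : γ (c1pi c1t) = c1pi c1t * y) :
    γ (c1pi c1c) = c1pi c1c ∧ y = 1 := by
  obtain ⟨z, hz, j, hj, rfl⟩ := hy
  rw [← map_mul] at ht
  have r1 : γ (c1pi c1t) * γ (c1pi c1t) = 1 := by
    rw [← map_mul, ← map_mul, c1t_sq, map_one, map_one]
  have r2 : c1W (γ (c1pi c1c)) (γ (c1pi c1t)) ^ 7 = 1 := by
    have := c1W_map γ.toMonoidHom (c1pi c1c) (c1pi c1t)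
    rw [MulEquiv.coe_toMonoidHom] at this
    rw [← this, ← c1W_map, ← map_pow, ← map_pow, c1W7, map_one, map_one]
  have r3 : moW (γ (c1pi c1c)) (γ (c1pi c1t)) ^ 12 = 1 := by
    rw [← moW_map, ← moW_hom, ← map_pow, ← map_pow, c1moW12, map_one, map_one]
  rw [ht] at r1 r2 r3
  rw [← map_mul] at r1
  simp only [c1zs, List.mem_cons, List.mem_nil_iff, or_false] at hz
  rcases hz with rfl | rfl | rfl | rfl | rfl | rfl
  · rcases hc with hc | hc
    · refine ⟨hc, ?_⟩
      by_contra hne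
      have h0 : j ≠ 0 := by
        rintro rfl
        apply hne
        rw [pow_zero, mul_one, map_one]
      rw [hc, ← moW_hom, ← map_pow] at r3
      exact killP j hj h0 r3
    · exfalso
      rw [hc, ← map_inv, ← moW_hom, ← map_pow] at r3
      exact killN j hj r3
  · exact absurd r1 (killA1 j hj)
  · exfalso
    rcases hc with hc | hc
    · rw [hc, ← c1W_map, ← map_pow] at r2
      exact killB2 j hj r2
    · rw [hc, ← map_inv, ← c1W_map, ← map_pow] at r2
      exact killC2 j hj r2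
  · exfalso
    rcases hc with hc | hc
    · rw [hc, ← c1W_map, ← map_pow] at r2
      exact killB3 j hj r2
    · rw [hc, ← map_inv, ← c1W_map, ← map_pow] at r2
      exact killC3 j hj r2
  · exfalso
    rcases hc with hc | hc
    · rw [hc, ← c1W_map, ← map_pow] at r2
      exact killB4 j hj r2
    · rw [hc, ← map_inv, ← c1W_map, ← map_pow] at r2
      exact killC4 j hj r2
  · exact absurd r1 (killA5 j hj)

/-- the second stage: no element of `c1Y` but `1` commutes with the image of `c1h` -/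
theorem co1_stage2 (y : Spor.Co1) (hy : y ∈ c1Y) (hcomm : y * c1pi c1h = c1pi c1h * y) : y = 1 := by
  obtain ⟨z, hz, j, hj, rfl⟩ := hy
  rw [← map_mul, ← map_mul] at hcomm
  simp only [c1zs, List.mem_cons, List.mem_nil_iff, or_false] at hz
  rcases hz with rfl | rfl | rfl | rfl | rfl | rfl
  · by_cases h0 : j = 0
    · rw [h0, pow_zero, mul_one, map_one]
    · exact absurd hcomm (killH0 j hj h0)
  · exact absurd hcomm (killH1 j hj)
  · exact absurd hcomm (killH2 j hj)
  · exact absurd hcomm (killH3 j hj)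
  · exact absurd hcomm (killH4 j hj)
  · exact absurd hcomm (killH5 j hj)

/-- every automorphism of `Co₁` is inner -/
theorem co1_out : Nat.card (Cfsg.Out Spor.Co1) = 1 := by
  apply Cfsg.Agent.Lib.Helper10.Co1O.out_trivial_rigid (c1pi c1c) (c1pi c1u) (c1pi c1t)
    (c1pi c1z1) (c1pi c1h) c1Y co1_fact23 pi_c_order
  · rw [← map_inv, ← map_mul, ← map_mul, ← map_pow, c1u_c]
  · intro x hx
    obtain ⟨g, rfl⟩ := c1pi_surj x
    rw [← map_mul, ← map_mul] at hx
    exact cent_c g (comm_of_pi g c1c 23 c1c_pow (by decide) hx)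
  · intro x hx
    obtain ⟨g, rfl⟩ := c1pi_surj x
    rw [← map_mul, ← map_mul] at hx
    obtain ⟨z, hz, j, hj, e⟩ := cent_u g (comm_of_pi g c1u 11 c1u_pow (by decide) hx)
    exact ⟨z, hz, j, hj, e⟩
  · rw [← map_inv, ← map_mul, ← map_mul, ← map_inv, c1t_u]
  · intro γ hc _ y hy ht
    exact co1_stage1 γ hc y hy ht
  · rw [← map_mul, ← map_mul, c1z1_u]
  · exact mem_closure_of_fix c1h c1h_fix
  · rw [← map_inv, ← map_mul, ← map_mul]
    exact mem_closure_of_fix _ c1bh_fix
  · exact co1_stage2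
  · exact co1_gen

end Cfsg.Agent.Lib.Helper26.Co1O
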