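import Mathlib
import Cfsg.Agent.Lib.Lead.ConwayXi

set_option autoImplicit false

/-!
# Elements of `Co0` from integer matrices

An integer matrix `m` with `mᵀ m = 64`, such that `m` and `mᵀ` map the lattice into `8` times the
lattice, gives the element `x ↦ m x / 8` of `Co0` (`matE`).  `MatRep m g` says that `g` is given by
the matrix `m`: `8 (g x)_q = ∑_p m q p x_p`.
-/

namespace Cfsg.Agent.Lib.Helper26.Co1O

open Cfsg Cfsg.Agent.Lib.Lead.CW

/-- the linear map of a matrix -/
def lapply (m : GolayPt → GolayPt → ℤ) (x : V) : V := fun q => ∑ p, m q p * x p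

/-- the linear map of a matrix, divided by `8` -/
def limg (m : GolayPt → GolayPt → ℤ) (x : V) : V := fun q => lapply m x q / 8

/-- the transposed matrix -/
def mT (m : GolayPt → GolayPt → ℤ) : GolayPt → GolayPt → ℤ := fun q p => m p q

variable (m : GolayPt → GolayPt → ℤ)

theorem lapply_add (x y : V) : lapply m (x + y) = lapply m x + lapply m y := by
  funext q
  simp only [lapply, Pi.add_apply, mul_add, Finset.sum_add_distrib]

theorem lapply_neg (x : V) : lapply m (-x) = -lapply m x := by
  funext q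
  simp only [lapply, Pi.neg_apply, mul_neg, Finset.sum_neg_distrib]

theorem lapply_zero : lapply m 0 = 0 := by
  funext q
  simp only [lapply, Pi.zero_apply, mul_zero, Finset.sum_const_zero]

theorem lapply_smul (c : ℤ) (x : V) : lapply m (c • x) = c • lapply m x := by
  funext q
  simp only [lapply, Pi.smul_apply, smul_eq_mul, Finset.mul_sum]
  refine Finset.sum_congr rfl (fun p _ => ?_)
  ring

/-- the matrix maps the lattice into `8` times the lattice -/
def LLat : Prop := ∀ x ∈ leechLattice, (∀ q, (8 : ℤ) ∣ lapply m x q) ∧ limg m x ∈ leechLattice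

/-- the columns are orthogonal of norm `64` -/
def LOrth : Prop := ∀ p p', ∑ q, m q p * m q p' = if p = p' then 64 else 0

variable {m}

theorem eight_limg (x : V) (h : ∀ q, (8 : ℤ) ∣ lapply m x q) : (8 : ℤ) • limg m x = lapply m x := by
  funext q
  show 8 * (lapply m x q / 8) = _
  exact Int.mul_ediv_cancel' (h q)

theorem limg_add (x y : V) (hx : ∀ q, (8 : ℤ) ∣ lapply m x q) :
    limg m (x + y) = limg m x + limg m y := by
  funext q
  show lapply m (x + y) q / 8 = lapply m x q / 8 + lapply m y q / 8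
  rw [lapply_add, Pi.add_apply, Int.add_ediv_of_dvd_left (hx q)]

theorem limg_neg (x : V) (hx : ∀ q, (8 : ℤ) ∣ lapply m x q) : limg m (-x) = -limg m x := by
  funext q
  show lapply m (-x) q / 8 = -(lapply m x q / 8)
  rw [lapply_neg, Pi.neg_apply, Int.neg_ediv_of_dvd (hx q)]

theorem LLat.of_gam (h : ∀ γ ∈ Gam, (∀ q, (8 : ℤ) ∣ lapply m γ q) ∧ limg m γ ∈ leechLattice) :
    LLat m := by
  apply leech_induction (fun x => (∀ q, (8 : ℤ) ∣ lapply m x q) ∧ limg m x ∈ leechLattice)
  · refine ⟨fun q => ?_, ?_⟩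
    · rw [lapply_zero]; exact dvd_zero _
    · have : limg m 0 = 0 := by
        funext q
        show lapply m 0 q / 8 = 0
        rw [lapply_zero]; rfl
      rw [this]
      exact leechLattice.zero_mem
  · rintro x y ⟨hx1, hx2⟩ ⟨hy1, hy2⟩
    refine ⟨fun q => ?_, ?_⟩
    · rw [lapply_add]
      exact dvd_add (hx1 q) (hy1 q)
    · rw [limg_add x y hx1]
      exact leechLattice.add_mem hx2 hy2
  · rintro x ⟨hx1, hx2⟩
    refine ⟨fun q => ?_, ?_⟩
    · rw [lapply_neg]
      exact (dvd_neg).2 (hx1 q)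
    · rw [limg_neg x hx1]
      exact leechLattice.neg_mem hx2
  · exact h

theorem sqNorm_lapply (h : LOrth m) (x : V) : sqNorm (lapply m x) = 64 * sqNorm x := by
  unfold sqNorm lapply
  have e1 : ∀ q, (∑ p, m q p * x p) ^ 2 = ∑ p, ∑ p', (m q p * m q p') * (x p * x p') := by
    intro q
    rw [sq, Finset.sum_mul_sum]
    refine Finset.sum_congr rfl (fun p _ => Finset.sum_congr rfl (fun p' _ => ?_))
    ring
  simp only [e1]
  rw [Finset.sum_comm]
  have e2 : ∀ p, ∑ q, ∑ p', (m q p * m q p') * (x p * x p') =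
      ∑ p', (∑ q, m q p * m q p') * (x p * x p') := by
    intro p
    rw [Finset.sum_comm]
    refine Finset.sum_congr rfl (fun p' _ => ?_)
    rw [Finset.sum_mul]
  simp only [e2]
  rw [Finset.mul_sum]
  refine Finset.sum_congr rfl (fun p _ => ?_)
  rw [Finset.sum_eq_single p]
  · rw [h p p, if_pos rfl]; ring
  · intro p' _ hp'
    rw [h p p', if_neg (Ne.symm hp'), zero_mul]
  · intro hp
    exact absurd (Finset.mem_univ p) hp

theorem lapply_mT_lapply (h : LOrth m) (x : V) : lapply (mT m) (lapply m x) = (64 : ℤ) • x := by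
  funext q'
  show ∑ q, m q q' * (∑ p, m q p * x p) = 64 * x q'
  have e1 : ∀ q, m q q' * (∑ p, m q p * x p) = ∑ p, (m q q' * m q p) * x p := by
    intro q
    rw [Finset.mul_sum]
    refine Finset.sum_congr rfl (fun p _ => ?_)
    ring
  simp only [e1]
  rw [Finset.sum_comm]
  have e2 : ∀ p, ∑ q, (m q q' * m q p) * x p = (∑ q, m q q' * m q p) * x p := by
    intro p
    rw [Finset.sum_mul]
  simp only [e2]
  rw [Finset.sum_eq_single q']
  · rw [h q' q', if_pos rfl]
  · intro p _ hp
    rw [h q' p, if_neg (Ne.symm hp), zero_mul]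
  · intro hp
    exact absurd (Finset.mem_univ q') hp

theorem mT_mT : mT (mT m) = m := rfl

theorem limg_mT_limg (h1 : LLat m) (h3 : LOrth m) (x : V) (hx : x ∈ leechLattice) :
    limg (mT m) (limg m x) = x := by
  obtain ⟨hd, -⟩ := h1 x hx
  have e1 : lapply (mT m) ((8 : ℤ) • limg m x) = (64 : ℤ) • x := by
    rw [eight_limg x hd, lapply_mT_lapply h3]
  rw [lapply_smul] at e1
  funext q
  show lapply (mT m) (limg m x) q / 8 = x q
  have e2 := congrFun e1 q
  simp only [Pi.smul_apply, smul_eq_mul] at e2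
  have e3 : lapply (mT m) (limg m x) q = 8 * x q := by omega
  rw [e3]
  exact Int.mul_ediv_cancel_left _ (by norm_num)

/-- the element of `Co0` given by a matrix -/
def matE (h1 : LLat m) (h2 : LLat (mT m)) (h3 : LOrth m) (h4 : LOrth (mT m)) : ↥Co0 :=
  ⟨{ toFun := fun x => ⟨limg m x.1, (h1 x.1 x.2).2⟩
     invFun := fun x => ⟨limg (mT m) x.1, (h2 x.1 x.2).2⟩
     left_inv := fun x => Subtype.ext (limg_mT_limg h1 h3 x.1 x.2)
     right_inv := fun x => Subtype.ext (limg_mT_limg (m := mT m) h2 h4 x.1 x.2) },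
    by
      refine ⟨fun v w => ?_, fun v => ?_⟩
      · apply Subtype.ext
        exact limg_add v.1 w.1 (h1 v.1 v.2).1
      · show sqNorm (limg m v.1) = sqNorm v.1
        have e1 : sqNorm ((8 : ℤ) • limg m v.1) = 64 * sqNorm v.1 := by
          rw [eight_limg v.1 (h1 v.1 v.2).1, sqNorm_lapply h3]
        have e2 : sqNorm ((8 : ℤ) • limg m v.1) = 64 * sqNorm (limg m v.1) := by
          unfold sqNorm
          rw [Finset.mul_sum]
          refine Finset.sum_congr rfl (fun p _ => ?_)
          simp only [Pi.smul_apply, smul_eq_mul]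
          ring
        omega⟩

/-- `g` is given by the matrix `m` -/
def MatRep (m : GolayPt → GolayPt → ℤ) (g : ↥Co0) : Prop :=
  ∀ (x : ↥leechLattice) (q : GolayPt), 8 * (g.1 x).1 q = lapply m x.1 q

theorem matE_rep (h1 : LLat m) (h2 : LLat (mT m)) (h3 : LOrth m) (h4 : LOrth (mT m)) :
    MatRep m (matE h1 h2 h3 h4) := by
  intro x q
  show 8 * (lapply m x.1 q / 8) = _
  exact Int.mul_ediv_cancel' ((h1 x.1 x.2).1 q)

theorem MatRep.apply {g : ↥Co0} (h : MatRep m g) (x : ↥leechLattice) :
    (g.1 x).1 = limg m x.1 := by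
  funext q
  show _ = lapply m x.1 q / 8
  rw [← h x q]
  exact (Int.mul_ediv_cancel_left _ (by norm_num)).symm

theorem MatRep.ext {g h : ↥Co0} (hg : MatRep m g) (hh : MatRep m h) : g = h := by
  apply Subtype.ext
  apply Equiv.ext
  intro x
  apply Subtype.ext
  rw [hg.apply, hh.apply]

end Cfsg.Agent.Lib.Helper26.Co1O
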