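import Cfsg.Agent.Lib.Helper26.Co1O.Mat

set_option autoImplicit false

/-!
# Elements of `Co0` from packed integer matrices: the computable tests

A matrix is packed in a natural number, 5 bits per entry (entry plus 16).  `matOk N Nt` is the
conjunction of the tests that make `N` (with transpose `Nt`) the matrix of an element of `Co0`.
-/

namespace Cfsg.Agent.Lib.Helper26.Co1O

open Cfsg Cfsg.Agent.Lib.Lead.CW Cfsg.Agent.Lib.helper3 Cfsg.Agent.S1571

/-- the entry `(q, p)` of a packed matrix -/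
def mget (N q p : ℕ) : ℤ :=
  ((Nat.land (Nat.shiftRight N (Nat.mul 5 (Nat.add (Nat.mul 24 q) p))) 31 : ℕ) : ℤ) - 16

/-- the matrix of a packed matrix -/
def mfun (N : ℕ) : GolayPt → GolayPt → ℤ := fun q p => mget N (gidx q) (gidx p)

/-- the test of a vector: its image is divisible by `8` and the quotient lies in the lattice -/
def lgood (m : GolayPt → GolayPt → ℤ) (x : V) : Bool :=
  decide (∀ q, lapply m x q % 8 = 0) && isLeechB (limg m x)

theorem lgood_sound {m : GolayPt → GolayPt → ℤ} {x : V} (h : lgood m x = true) :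
    (∀ q, (8 : ℤ) ∣ lapply m x q) ∧ limg m x ∈ leechLattice := by
  simp only [lgood, Bool.and_eq_true, decide_eq_true_eq] at h
  exact ⟨fun q => Int.dvd_of_emod_eq_zero (h.1 q), isLeechB_sound _ h.2⟩

/-- the test of the generators of the lattice -/
def GamChk (m : GolayPt → GolayPt → ℤ) : Prop :=
  (∀ i : GolayPt, i ≠ none → lgood m (e4 i 4) = true ∧ lgood m (e4 i (-4)) = true) ∧
    (∀ t : ZMod 23, lgood m (twoInd (qrWord t)) = true) ∧ lgood m (twoInd 1) = true ∧
      lgood m x0 = true

instance (m : GolayPt → GolayPt → ℤ) : Decidable (GamChk m) := by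
  unfold GamChk
  infer_instance

theorem LLat.of_chk {m : GolayPt → GolayPt → ℤ} (h : GamChk m) : LLat m := by
  obtain ⟨h1, h2, h3, h4⟩ := h
  apply LLat.of_gam
  intro γ hγ
  apply lgood_sound
  rcases hγ with ((⟨i, hi, h | h⟩ | ⟨t, rfl⟩) | h) | h
  · rw [h]; exact (h1 i hi).1
  · rw [h]; exact (h1 i hi).2
  · exact h2 t
  · rw [Set.mem_singleton_iff] at h
    rw [h]
    exact h3
  · rw [Set.mem_singleton_iff] at h
    rw [h]
    exact h4

instance (m : GolayPt → GolayPt → ℤ) : Decidable (LOrth m) := by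
  unfold LOrth
  infer_instance

/-- all the tests -/
structure MatOk (N Nt : ℕ) : Prop where
  tr : ∀ q p : GolayPt, mfun Nt q p = mfun N p q
  lat : GamChk (mfun N)
  latT : GamChk (mfun Nt)
  orth : LOrth (mfun N)
  orthT : LOrth (mfun Nt)

theorem MatOk.mT {N Nt : ℕ} (h : MatOk N Nt) : Co1O.mT (mfun N) = mfun Nt := by
  funext q p
  exact (h.tr q p).symm

/-- the element of `Co0` of a packed matrix -/
def matEN (N Nt : ℕ) (h : MatOk N Nt) : ↥Co0 :=
  matE (m := mfun N) (LLat.of_chk h.lat) (by rw [h.mT]; exact LLat.of_chk h.latT) h.orth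
    (by rw [h.mT]; exact h.orthT)

theorem matEN_rep (N Nt : ℕ) (h : MatOk N Nt) : MatRep (mfun N) (matEN N Nt h) :=
  matE_rep _ _ _ _

end Cfsg.Agent.Lib.Helper26.Co1O
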